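import Groth.Agent.BunMod.K596.Iface
import Groth.Agent.AbVar.K506.DivAlg
import Groth.Agent.AbVar.K506.TauInv
import Groth.Agent.AbVar.K506.TauAmple
import Groth.Agent.AbVar.K511.AmpleVan
import Groth.Agent.AbVar.K512.PhiSurj

/-!
# Classes algebraically equivalent to zero on an abelian variety and vanishing (BunMod, part F2)

* `isAlgEquivZero_iff_inv` : algebraically equivalent to zero iff translation invariant;
* `algEquivZero_pullback` (F2c), `isAmple_tensor`, `it0_of_ample` (F2d), `pullback_eq` (F2e), `pullback_eq_of_sym` (F2e').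
-/

set_option autoImplicit false
set_option linter.unusedVariables false
set_option linter.unusedSectionVars false
universe u

open CategoryTheory CategoryTheory.Limits AlgebraicGeometry MonoidalCategory CartesianMonoidalCategory
open scoped MonObj
open Groth.Agent.Grpsch.PicGrp Groth.Agent.Grpsch.Cube Groth.Agent.Fdesc.LocGen K506.Transl
open Groth.Agent.BunMod.K596

namespace K231.AvPic

section AV

variable {k : Type u} [Field k] [IsAlgClosed k] {A : Over (Spec (CommRingCat.of k))} [GrpObj A]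
  [IsProper A.hom] [GeometricallyIntegral A.hom]

/-- Translation invariant classes are algebraically equivalent to zero and conversely. -/
theorem isAlgEquivZero_iff_inv {L : A.left.Modules} (hL : PicF.IsInvertible L) :
    @Pic13.IsAlgEquivZero k _ A.left ⟨A.hom⟩ L ↔ Inv (mk L hL) := by
  letI : A.left.Over (Spec (CommRingCat.of k)) := ⟨A.hom⟩
  constructor
  · intro h
    exact K506.TauInv.inv_of_isAlgEquivZero hL h
  · intro h
    obtain ⟨r, hr, hrm⟩ := K506.DivAlg.exists_pow_of_inv h 1 le_rfl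
    rw [_root_.pow_one] at hrm
    rw [hrm] at hr
    exact (Groth.Agent.Pic13.H138.AlgEquiv.isAlgEquivZero_iff_mem hL).2 hr

omit [IsProper A.hom] [GeometricallyIntegral A.hom] in
/-- Pull back along a morphism of `k`-schemes. -/
theorem isAlgEquivZero_pullback {B : Over (Spec (CommRingCat.of k))} (f : B ⟶ A) {L : A.left.Modules}
    (hL : PicF.IsInvertible L) (h : @Pic13.IsAlgEquivZero k _ A.left ⟨A.hom⟩ L) :
    @Pic13.IsAlgEquivZero k _ B.left ⟨B.hom⟩ ((Scheme.Modules.pullback f.left).obj L) := by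
  letI : A.left.Over (Spec (CommRingCat.of k)) := ⟨A.hom⟩
  letI : B.left.Over (Spec (CommRingCat.of k)) := ⟨B.hom⟩
  have h1 := (Groth.Agent.Pic13.H138.AlgEquiv.isAlgEquivZero_iff_mem hL).1 h
  refine (Groth.Agent.Pic13.H138.AlgEquiv.isAlgEquivZero_iff_mem (isInvertible_pullback f.left hL)).2 ?_
  rw [← pull_mk f.left hL]
  exact Groth.Agent.Pic13.H138.AlgEquiv.pull_mem_alg0 (k := k) f.left (Over.w f) h1

/-- Torsion classes are translation invariant. -/
theorem inv_of_pow_eq_one {c : Pic A.left} (n : ℕ) (hn : 1 ≤ n) (h : c ^ n = 1) : Inv c :=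
  K506.TauInv.inv_of_inv_pow n hn (h ▸ Inv.one)

/-- An ample module times a translation invariant one is a translate. -/
theorem exists_translate {L D : A.left.Modules} (hL : CohB1.IsAmple L) (hD : PicF.IsInvertible D)
    (hd : Inv (mk D hD)) : ∃ x : 𝟙_ (Over (Spec (CommRingCat.of k))) ⟶ A,
      Nonempty ((Scheme.Modules.pullback (tr x).left).obj L ≅ CohB1.tensorMod L D) := by
  obtain ⟨x, hx⟩ := K512.PhiSurj.exists_eq_of_isAmple L hL (mk D hD) hd
  refine ⟨x, ?_⟩
  rw [← mk_eq_iff (isInvertible_pullback _ hL.1) (isInvertible_tensorMod hL.1 hD), ← pull_mk _ hL.1,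
    ← mk_mul_mk hL.1 hD]
  rw [← hx, mul_comm, inv_mul_cancel_right]

theorem isIso_tr (x : 𝟙_ (Over (Spec (CommRingCat.of k))) ⟶ A) : IsIso (tr x).left := by
  have h1 : tr x ≫ tr x⁻¹ = 𝟙 A := by rw [tr_comp_tr, mul_inv_cancel, tr_one]
  have h2 : tr x⁻¹ ≫ tr x = 𝟙 A := by rw [tr_comp_tr, inv_mul_cancel, tr_one]
  have : IsIso (tr x) := ⟨⟨tr x⁻¹, h1, h2⟩⟩
  exact inferInstanceAs (IsIso ((Over.forget _).map (tr x)))

theorem isAmple_tensor {L D : A.left.Modules} (hL : CohB1.IsAmple L) (hD : PicF.IsInvertible D)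
    (hd : Inv (mk D hD)) : CohB1.IsAmple (CohB1.tensorMod L D) := by
  obtain ⟨x, ⟨e⟩⟩ := exists_translate hL hD hd
  have := isIso_tr x
  have h1 : CohB1.IsAmple ((Scheme.Modules.pullback (tr x).left).obj L) :=
    (Groth.Agent.S0052.result k A.hom A.hom (tr x).left (Over.w _) L hL.1).1 hL
  exact Groth.Agent.S2329.isAmple_of_iso e h1

end AV

section PPAV

variable {k : Type u} [Field k] [IsAlgClosed k] {J : Over (Spec (CommRingCat.of k))} [GrpObj J]
  {L : J.left.Modules} {g : ℕ}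

/-- F2d. -/
theorem it0_of_ample (hJ : PPAV g J L) (B : J.left.Modules) (hB : CohB1.IsAmple B) : IT0 J B := by
  have := hJ.proper
  have := hJ.gint
  intro α hα h0 i hi
  exact K511.AmpleVan.vanish J _ (isAmple_tensor hB hα ((isAlgEquivZero_iff_inv hα).1 h0)) i hi

/-- F2c. -/
theorem algEquivZero_pullback (hJ : PPAV g J L) (r : ℕ) (α : J.left.Modules) (hα : PicF.IsInvertible α)
    (h0 : @Pic13.IsAlgEquivZero k _ J.left ⟨J.hom⟩ α) :
    @Pic13.IsAlgEquivZero k _ J.left ⟨J.hom⟩ ((Scheme.Modules.pullback ((𝟙 J) ^ r : J ⟶ J).left).obj α) :=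
  isAlgEquivZero_pullback _ hα h0

/-- The correction term of `[r]^* c = c^(r²) · q`. -/
theorem exists_inv_pl_pow (hJ : PPAV g J L) (c : Pic J.left) (r : ℕ) :
    ∃ q : Pic J.left, Inv q ∧ pl ((𝟙 J) ^ r) c = c ^ (r ^ 2) * q := by
  have := hJ.proper
  have := hJ.gint
  have hq : Inv (pl (𝟙 J)⁻¹ c * c⁻¹) := by
    rw [inv_iff_phi]
    intro a
    rw [phi_cmul, phi_pl_inv_eq]
    have h1 : phi c⁻¹ a = (phi c a)⁻¹ := by
      rw [eq_inv_iff_mul_eq_one, ← phi_cmul, inv_mul_cancel]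
      exact (inv_iff_phi 1).1 Inv.one a
    rw [h1, mul_inv_cancel]
  refine ⟨(pl (𝟙 J)⁻¹ c * c⁻¹) ^ (r * (r - 1) / 2), hq.pow _, ?_⟩
  have hid : pl (𝟙 J) c = c := pull_id c
  rw [pl_pow, hid, _root_.mul_pow, inv_pow]
  have h2 : r * (r + 1) / 2 + r * (r - 1) / 2 = r ^ 2 := by
    have e1 : 2 ∣ r * (r + 1) := (Nat.even_mul_succ_self r).two_dvd
    have e2 : 2 ∣ r * (r - 1) := (Nat.even_mul_pred_self r).two_dvd
    rw [← Nat.add_div_of_dvd_right e1]
    rcases r with _ | n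
    · simp
    · have : (n + 1) * (n + 1 + 1) + (n + 1) * (n + 1 - 1) = 2 * (n + 1) ^ 2 := by
        rw [Nat.add_sub_cancel]; ring
      rw [this, Nat.mul_div_cancel_left _ (by norm_num)]
  rw [← h2, _root_.pow_add]
  generalize c ^ (r * (r + 1) / 2) = a
  generalize (pl (𝟙 J)⁻¹ c) ^ (r * (r - 1) / 2) = b
  generalize c ^ (r * (r - 1) / 2) = d
  rw [mul_comm b d⁻¹, ← _root_.mul_assoc, mul_inv_cancel_right]

/-- F2e. -/
theorem pullback_eq (hJ : PPAV g J L) (r : ℕ) (P : J.left.Modules) (hP : PicF.IsInvertible P) :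
    ∃ P₀ : J.left.Modules, PicF.IsInvertible P₀ ∧ @Pic13.IsAlgEquivZero k _ J.left ⟨J.hom⟩ P₀ ∧
      Nonempty ((Scheme.Modules.pullback ((𝟙 J) ^ r : J ⟶ J).left).obj P ≅
        CohB1.tensorMod (CohB1.tensorPow P (r ^ 2)) P₀) := by
  have := hJ.proper
  have := hJ.gint
  obtain ⟨q, hq, h⟩ := exists_inv_pl_pow hJ (mk P hP) r
  obtain ⟨P₀, hP₀, rfl⟩ := exists_mk q
  refine ⟨P₀, hP₀, (isAlgEquivZero_iff_inv hP₀).2 hq, ?_⟩
  rw [← mk_eq_iff (isInvertible_pullback _ hP) (isInvertible_tensorMod (isInvertible_tensorPow hP _) hP₀),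
    ← pull_mk _ hP, ← mk_mul_mk (isInvertible_tensorPow hP _) hP₀, mk_tensorPow hP]
  exact h

/-- F2e'. -/
theorem pullback_eq_of_sym (hJ : PPAV g J L) (r : ℕ) (P : J.left.Modules) (hP : PicF.IsInvertible P) (hs : Sym J P) :
    Nonempty ((Scheme.Modules.pullback ((𝟙 J) ^ r : J ⟶ J).left).obj P ≅ CohB1.tensorPow P (r ^ 2)) := by
  have := hJ.proper
  have := hJ.gint
  rw [← mk_eq_iff (isInvertible_pullback _ hP) (isInvertible_tensorPow hP _), ← pull_mk _ hP, mk_tensorPow hP]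
  have h1 : pl (𝟙 J)⁻¹ (mk P hP) = mk P hP := by
    have h2 : ((𝟙 J)⁻¹ : J ⟶ J) = GrpObj.inv := Groth.Agent.Grpsch.MulFin.inv_id_eq J
    rw [h2, pl, pull_mk, mk_eq_iff]
    exact hs
  have h3 := pl_pow_of_symm (mk P hP) (𝟙 J) h1 r
  have hid : pl (𝟙 J) (mk P hP) = mk P hP := pull_id _
  rw [hid] at h3
  exact h3

end PPAV

end K231.AvPic
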