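import Groth.Agent.BunMod.K231.Cov
import Groth.Agent.BunMod.K231.AvPic
import Groth.Agent.Grpsch.MulFin
import Groth.Agent.ASBun.K791.Tens
import Groth.Agent.Fga.HShift
import Groth.Agent.PerfB.FlatPull
import Groth.Agent.Dcoh.Spread
import Groth.Agent.ASBun.K790.Isotyp

/-!
# Multiplication by `r` on `J`: retracts and vanishing (BunMod F2a, F2b, F2f)
-/

set_option autoImplicit false
set_option linter.unusedVariables false
set_option linter.unusedSectionVars false
universe u

open CategoryTheory CategoryTheory.Limits AlgebraicGeometry MonoidalCategory CartesianMonoidalCategory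
open scoped MonObj
open Groth.Agent Groth.Agent.VarietyB.TensCoh
open Groth.Agent.BunMod.K596

namespace K231.Mul

section AV

variable {k : Type u} [Field k] (A : Over (Spec (CommRingCat.of k))) [GrpObj A]
  [IsProper A.hom] [GeometricallyIntegral A.hom]

omit [GrpObj A] [IsProper A.hom] in
theorem isIntegral_left : IsIntegral A.left := GeometricallyIntegral.isIntegral_of_subsingleton A.hom

omit A [GrpObj A] [IsProper A.hom] [GeometricallyIntegral A.hom] in
theorem lofp {A B : Over (Spec (CommRingCat.of k))} [LocallyOfFiniteType A.hom] (f : B ⟶ A)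
    [LocallyOfFiniteType f.left] :
    LocallyOfFinitePresentation f.left := by
  have : IsLocallyNoetherian A.left := LocallyOfFiniteType.isLocallyNoetherian A.hom
  exact LocallyOfFinitePresentation.iff_locallyOfFiniteType.2 inferInstance

/-- The unit of `[r]` splits. -/
theorem isSplitMono [CharZero k] (r : ℕ) (hr : 1 ≤ r) :
    IsSplitMono (ClSub.unitToPush ((𝟙 A) ^ r : A ⟶ A).left) := by
  have := isIntegral_left A
  have := Grpsch.MulFin.isFinite_pow A r hr
  have := Grpsch.MulFin.flat_pow A r hr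
  have := Grpsch.MulFin.surjective_pow A r hr
  have := lofp ((𝟙 A) ^ r : A ⟶ A)
  exact Cov.isSplitMono_unitToPush k _ A.hom

end AV

section PPAV

variable {k : Type u} [Field k] [CharZero k] {J : Over (Spec (CommRingCat.of k))} [GrpObj J]
  {L : J.left.Modules} {g : ℕ}

/-- F2a. -/
theorem exists_retract (hJ : PPAV g J L) {r : ℕ} (hr : 1 ≤ r) (F : J.left.Modules) (hF : FlatMod.IsFinLocFree F) :
    ∃ (i : F ⟶ (Scheme.Modules.pushforward ((𝟙 J) ^ r : J ⟶ J).left).obj
        ((Scheme.Modules.pullback ((𝟙 J) ^ r : J ⟶ J).left).obj F))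
      (p : (Scheme.Modules.pushforward ((𝟙 J) ^ r : J ⟶ J).left).obj
        ((Scheme.Modules.pullback ((𝟙 J) ^ r : J ⟶ J).left).obj F) ⟶ F), i ≫ p = 𝟙 F := by
  have := hJ.proper
  have := hJ.gint
  obtain ⟨p, hp⟩ := Cov.exists_retract (isSplitMono J r hr) (HasBases.of_isFinLocFree hF)
  exact ⟨_, p, hp⟩

/-- F2b. -/
theorem subsingleton_of_pullback (hJ : PPAV g J L) {r : ℕ} (hr : 1 ≤ r) (F : J.left.Modules)
    (hF : FlatMod.IsFinLocFree F) (i : ℕ)
    (h : Subsingleton (Coh.HH J.left ((Scheme.Modules.pullback ((𝟙 J) ^ r : J ⟶ J).left).obj F) i)) :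
    Subsingleton (Coh.HH J.left F i) := by
  have := hJ.proper
  have := hJ.gint
  have := Grpsch.MulFin.isFinite_pow J r hr
  exact Cov.subsingleton_HH (isSplitMono J r hr) J.hom (HasBases.of_isFinLocFree hF)
    (PerfA.QCohEpi.isQCoh_of_isFinLocFree (PerfB.FlatPull.isFinLocFree_pullback _ hF)) i h

/-- Positive tensor powers of ample modules are ample. -/
theorem isAmple_pow (hJ : PPAV g J L) {n : ℕ} (hn : 1 ≤ n) : CohB1.IsAmple (CohB1.tensorPow L n) := by
  have := hJ.proper
  have := Grpsch.MulFin.isSeparated_left J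
  have : CompactSpace J.left := QuasiCompact.compactSpace_of_compactSpace J.hom
  exact (Groth.Agent.S2327.result J.left L hJ.inv _ hn).mp hJ.ample

/-- `[r]^*(E ⊗ α)` for `E` with `[r]^* E` a sum of copies of `B`. -/
theorem pullback_tensor_iso {X Y : Scheme.{u}} (f : X ⟶ Y) {E α : Y.Modules} {B : X.Modules} {v : ℕ}
    (e : (Scheme.Modules.pullback f).obj E ≅ ∐ fun _ : Fin v => B) :
    Nonempty ((Scheme.Modules.pullback f).obj (CohB1.tensorMod E α) ≅
      ∐ fun _ : Fin v => CohB1.tensorMod B ((Scheme.Modules.pullback f).obj α)) :=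
  ⟨ASBun.K791.Tens.pullTens f E α ≪≫ ASBun.K791.Tens.tensMap e (Iso.refl _) ≪≫ ASBun.K791.Tens.coprodTens _ _⟩

variable [IsAlgClosed k]

/-- F2f. -/
theorem it0_of_verD (hJ : PPAV g J L) {r m v : ℕ} (hr : 1 ≤ r) (hm : 1 ≤ m) {E : J.left.Modules}
    (hE : VerD J L r m v E) : IT0 J E := by
  intro α hα h0 i hi
  obtain ⟨e⟩ := hE.iso
  refine subsingleton_of_pullback hJ hr _ (Sga67.LocBasis.isFinLocFree_tensorMod hE.locFree
    (K790.Isotyp.isFinLocFree_of_isInvertible hα)) i ?_
  obtain ⟨e'⟩ := pullback_tensor_iso ((𝟙 J) ^ r : J ⟶ J).left (α := α) e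
  refine CohqB.LocBaseHH.subsingleton_of_iso e'.symm i ?_
  refine Fga.HShift.subsingleton_coproduct _ i fun _ => ?_
  exact AvPic.it0_of_ample hJ _ (isAmple_pow hJ (Nat.mul_pos hr hm)) _
    (Fdesc.LocGen.isInvertible_pullback _ hα) (AvPic.algEquivZero_pullback hJ r α hα h0) i hi

end PPAV

end K231.Mul
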