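import Groth.Agent.Resolve.K377.TrSplit
import Groth.Agent.FormalA.ThickSurj
import Groth.Agent.CohqB.SerLocFib
import Groth.Agent.Dcoh.TensRestr

/-!
# Pull back along a cover with split unit

`f : X ⟶ Y` with `O_Y ⟶ f_* O_X` a split monomorphism (e.g. finite flat of finite presentation, surjective,
`Y` integral over a field of characteristic zero: `K231.Cov.isSplitMono_unitToPush`):

* `K231.Cov.exists_retract`: `E` finite locally free is a retract of `f_* f^* E` (through the unit);
* `K231.Cov.subsingleton_HH`: `f` affine: `H^i(X, f^* E) = 0` implies `H^i(Y, E) = 0`;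
* `K231.Cov.rho`, `unit_rho`, `rho_naturality`: the retraction `f_* f^* E ⟶ E`, natural in `E`;
* `K231.Cov.tr`: for `β : f^* E ⟶ f^* E'` its average `E ⟶ E'`; `tr_comp_map`, `map_comp_tr`, `tr_map`
  (Maschke): `tr (f^* α) = α`, `tr (f^*α ≫ β) = α ≫ tr β`, `tr (β ≫ f^*α) = tr β ≫ α`;
* `K231.Cov.exists_split_mono`, `exists_split_epi`: `α` is a split mono (epi) if `f^* α` is.
-/

set_option autoImplicit false
set_option linter.unusedVariables false
set_option maxHeartbeats 200000
universe u

open CategoryTheory CategoryTheory.Limits AlgebraicGeometry TopologicalSpace Opposite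

namespace K231.Cov

open Groth.Agent Groth.Agent.VarietyB.TensCoh Groth.Agent.Ega2.Tens

variable {X Y : Scheme.{u}}

section Trace

/-- The trace splitting in characteristic zero. -/
theorem isSplitMono_unitToPush (k : Type u) [Field k] [CharZero k] (f : X ⟶ Y) [IsIntegral Y]
    (y : Y ⟶ Spec (CommRingCat.of k)) [IsFinite f] [Flat f] [LocallyOfFinitePresentation f] [Surjective f] :
    IsSplitMono (ClSub.unitToPush f) := by
  refine K377.TrSplit.isSplitMono_unitToPush f ⟨inferInstance, inferInstance, inferInstance⟩ fun d hd U => ?_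
  have h1 : IsUnit ((d : ℕ) : k) := isUnit_iff_ne_zero.mpr (Nat.cast_ne_zero.mpr hd)
  have h2 := h1.map ((Scheme.ΓSpecIso (CommRingCat.of k)).inv ≫ y.appLE ⊤ U le_top).hom
  rwa [map_natCast] at h2

end Trace

variable (f : X ⟶ Y)

theorem qmap_eq : FormalA.ThickSurj.qmap f = ClSub.unitToPush f := by
  apply Scheme.Modules.hom_ext
  intro U
  ext s
  rfl

/-- The map `f_* f^* E ⟶ E` attached to `τ : f_* O ⟶ O`. -/
noncomputable def rho (τ : (Scheme.Modules.pushforward f).obj (Coh.structureModule X) ⟶ Coh.structureModule Y)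
    {E : Y.Modules} (hE : HasBases E) :
    (Scheme.Modules.pushforward f).obj ((Scheme.Modules.pullback f).obj E) ⟶ E :=
  (VarietyB.ProjForm.projIsoUnit f hE).inv ≫ Sga67.ExtSheaf.tmap E τ ≫ (runit E).hom

variable {f}

theorem unit_rho {τ : (Scheme.Modules.pushforward f).obj (Coh.structureModule X) ⟶ Coh.structureModule Y}
    (hτ : ClSub.unitToPush f ≫ τ = 𝟙 _) {E : Y.Modules} (hE : HasBases E) :
    (Scheme.Modules.pullbackPushforwardAdjunction f).unit.app E ≫ rho f τ hE = 𝟙 E := by
  have h1 := FormalA.ThickSurj.tmap_qmap f E hE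
  rw [qmap_eq] at h1
  have h2 : (Scheme.Modules.pullbackPushforwardAdjunction f).unit.app E =
      (runit E).inv ≫ Sga67.ExtSheaf.tmap E (ClSub.unitToPush f) ≫
        (VarietyB.ProjForm.projIsoUnit f hE).hom := by
    rw [h1, Iso.inv_hom_id_assoc]
  have h3 : Sga67.ExtSheaf.tmap E (ClSub.unitToPush f) ≫ Sga67.ExtSheaf.tmap E τ = 𝟙 _ := by
    have h4 := ((DCoh.tensorBi (X := Y)).obj E).map_comp (ClSub.unitToPush f) τ
    rw [hτ, CategoryTheory.Functor.map_id] at h4
    exact h4.symm
  rw [h2, rho]
  simp only [Category.assoc, Iso.hom_inv_id_assoc]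
  rw [reassoc_of% h3, Iso.inv_hom_id]
  rfl

/-- The projection formula isomorphism on sections. -/
theorem projIsoUnit_tmul {E : Y.Modules} (hE : HasBases E) {U : Y.Opens} (e : Γ(E, U)) (s : Γ(X, f ⁻¹ᵁ U)) :
    (VarietyB.ProjForm.projIsoUnit f hE).hom.app U
      (tmul e (show Γ((Scheme.Modules.pushforward f).obj (Coh.structureModule X), U) from sm s)) =
        s • Fdesc.LocGen.pullSec f e := by
  have h2 := VarietyB.ProjForm.projMor_tmul f E (Coh.structureModule X) e (sm s : Γ(Coh.structureModule X, f ⁻¹ᵁ U))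
  have h3 : (runit ((Scheme.Modules.pullback f).obj E)).hom.app (f ⁻¹ᵁ U)
      (tmul (Fdesc.LocGen.pullSec f e) (sm s)) = s • Fdesc.LocGen.pullSec f e := runit_hom_tmul _ _
  exact (congrArg ((runit ((Scheme.Modules.pullback f).obj E)).hom.app (f ⁻¹ᵁ U)) h2).trans h3

theorem map_pullSec {E E' : Y.Modules} (α : E ⟶ E') {U : Y.Opens} (e : Γ(E, U)) :
    ((Scheme.Modules.pullback f).map α).app (f ⁻¹ᵁ U) (Fdesc.LocGen.pullSec f e) =
      Fdesc.LocGen.pullSec f (α.app U e) := by
  have h := (Scheme.Modules.pullbackPushforwardAdjunction f).unit.naturality α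
  have h2 := congr($(h).app U e)
  exact h2.symm

/-- The map on tensor products induced by a morphism of the left factor. -/
noncomputable def tl {E E' : Y.Modules} (α : E ⟶ E') (N : Y.Modules) : CohB1.tensorMod E N ⟶ CohB1.tensorMod E' N :=
  ((DCoh.tensorBi (X := Y)).map α).app N

theorem key1 {E E' : Y.Modules} (hE' : HasBases E') (α : E ⟶ E') {U : Y.Opens} (e : Γ(E, U)) (s : Γ(X, f ⁻¹ᵁ U)) :
    (tl α ((Scheme.Modules.pushforward f).obj (Coh.structureModule X)) ≫
      (VarietyB.ProjForm.projIsoUnit f hE').hom).app U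
      (tmul e (show Γ((Scheme.Modules.pushforward f).obj (Coh.structureModule X), U) from sm s)) =
        s • Fdesc.LocGen.pullSec f (α.app U e) := by
  have h1 := Dcoh.TensRestr.tensorBi_map_tmul α ((Scheme.Modules.pushforward f).obj (Coh.structureModule X)) e
    (show Γ((Scheme.Modules.pushforward f).obj (Coh.structureModule X), U) from sm s)
  exact (congrArg ((VarietyB.ProjForm.projIsoUnit f hE').hom.app U) h1).trans
    (projIsoUnit_tmul (f := f) hE' (α.app U e) s)

theorem key2 {E E' : Y.Modules} (hE : HasBases E) (α : E ⟶ E') {U : Y.Opens} (e : Γ(E, U)) (s : Γ(X, f ⁻¹ᵁ U)) :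
    ((VarietyB.ProjForm.projIsoUnit f hE).hom ≫
        (Scheme.Modules.pushforward f).map ((Scheme.Modules.pullback f).map α)).app U
      (tmul e (show Γ((Scheme.Modules.pushforward f).obj (Coh.structureModule X), U) from sm s)) =
        s • Fdesc.LocGen.pullSec f (α.app U e) := by
  have h3 := projIsoUnit_tmul (f := f) hE e s
  have h4 : ((Scheme.Modules.pullback f).map α).app (f ⁻¹ᵁ U) (s • Fdesc.LocGen.pullSec f e) =
      s • Fdesc.LocGen.pullSec f (α.app U e) := by
    rw [Scheme.Modules.Hom.app_smul, map_pullSec]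
  exact (congrArg (((Scheme.Modules.pullback f).map α).app (f ⁻¹ᵁ U)) h3).trans h4

theorem projIsoUnit_naturality {E E' : Y.Modules} (hE : HasBases E) (hE' : HasBases E') (α : E ⟶ E') :
    tl α ((Scheme.Modules.pushforward f).obj (Coh.structureModule X)) ≫ (VarietyB.ProjForm.projIsoUnit f hE').hom =
      (VarietyB.ProjForm.projIsoUnit f hE).hom ≫
        (Scheme.Modules.pushforward f).map ((Scheme.Modules.pullback f).map α) :=
  hom_ext _ _ fun U e (s : Γ(X, f ⁻¹ᵁ U)) => (key1 hE' α e s).trans (key2 hE α e s).symm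

theorem rho_naturality (τ : (Scheme.Modules.pushforward f).obj (Coh.structureModule X) ⟶ Coh.structureModule Y)
    {E E' : Y.Modules} (hE : HasBases E) (hE' : HasBases E') (α : E ⟶ E') :
    (Scheme.Modules.pushforward f).map ((Scheme.Modules.pullback f).map α) ≫ rho f τ hE' = rho f τ hE ≫ α := by
  have h1 := projIsoUnit_naturality (f := f) hE hE' α
  have h2 : (Scheme.Modules.pushforward f).map ((Scheme.Modules.pullback f).map α) ≫
      (VarietyB.ProjForm.projIsoUnit f hE').inv =
      (VarietyB.ProjForm.projIsoUnit f hE).inv ≫ tl α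
        ((Scheme.Modules.pushforward f).obj (Coh.structureModule X)) := by
    rw [Iso.comp_inv_eq, Category.assoc, h1, Iso.inv_hom_id_assoc]
  have h3 : tl α ((Scheme.Modules.pushforward f).obj (Coh.structureModule X)) ≫ Sga67.ExtSheaf.tmap E' τ =
      Sga67.ExtSheaf.tmap E τ ≫ tl α (Coh.structureModule Y) :=
    (((DCoh.tensorBi (X := Y)).map α).naturality τ).symm
  have h4 : tl α (Coh.structureModule Y) ≫ (runit E').hom =
      (runit E).hom ≫ α := by
    refine hom_ext _ _ fun U e (s : Γ(Y, U)) => ?_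
    refine (congrArg ((runit E').hom.app U) (Dcoh.TensRestr.tensorBi_map_tmul α (Coh.structureModule Y) e
      (sm s))).trans ?_
    refine (runit_hom_tmul s (α.app U e)).trans ?_
    refine Eq.trans ?_ (congrArg (α.app U) (runit_hom_tmul s e)).symm
    exact (Scheme.Modules.Hom.app_smul α s e).symm
  rw [rho, ← Category.assoc, h2, Category.assoc, reassoc_of% h3, h4, rho, Category.assoc, Category.assoc]

/-- The average of a morphism `β : f^* E ⟶ f^* E'`. -/
noncomputable def tr (τ : (Scheme.Modules.pushforward f).obj (Coh.structureModule X) ⟶ Coh.structureModule Y)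
    {E E' : Y.Modules} (hE' : HasBases E')
    (β : (Scheme.Modules.pullback f).obj E ⟶ (Scheme.Modules.pullback f).obj E') : E ⟶ E' :=
  (Scheme.Modules.pullbackPushforwardAdjunction f).unit.app E ≫ (Scheme.Modules.pushforward f).map β ≫ rho f τ hE'

theorem map_comp_tr (τ : (Scheme.Modules.pushforward f).obj (Coh.structureModule X) ⟶ Coh.structureModule Y)
    {E E' E'' : Y.Modules} (hE'' : HasBases E'') (α : E ⟶ E')
    (β : (Scheme.Modules.pullback f).obj E' ⟶ (Scheme.Modules.pullback f).obj E'') :
    tr τ hE'' ((Scheme.Modules.pullback f).map α ≫ β) = α ≫ tr τ hE'' β := by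
  have h := (Scheme.Modules.pullbackPushforwardAdjunction f).unit.naturality α
  rw [tr, tr, Functor.map_comp, Category.assoc]
  have h' : (Scheme.Modules.pullbackPushforwardAdjunction f).unit.app E ≫
      (Scheme.Modules.pushforward f).map ((Scheme.Modules.pullback f).map α) =
        α ≫ (Scheme.Modules.pullbackPushforwardAdjunction f).unit.app E' := h.symm
  rw [reassoc_of% h']

theorem tr_comp_map (τ : (Scheme.Modules.pushforward f).obj (Coh.structureModule X) ⟶ Coh.structureModule Y)
    {E E' E'' : Y.Modules} (hE' : HasBases E') (hE'' : HasBases E'') (α : E' ⟶ E'')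
    (β : (Scheme.Modules.pullback f).obj E ⟶ (Scheme.Modules.pullback f).obj E') :
    tr τ hE'' (β ≫ (Scheme.Modules.pullback f).map α) = tr τ hE' β ≫ α := by
  rw [tr, tr, Functor.map_comp, Category.assoc, Category.assoc, Category.assoc, rho_naturality τ hE' hE'' α]

theorem tr_map {τ : (Scheme.Modules.pushforward f).obj (Coh.structureModule X) ⟶ Coh.structureModule Y}
    (hτ : ClSub.unitToPush f ≫ τ = 𝟙 _) {E E' : Y.Modules} (hE' : HasBases E') (α : E ⟶ E') :
    tr τ hE' ((Scheme.Modules.pullback f).map α) = α := by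
  have h := map_comp_tr τ hE' α (𝟙 _)
  rw [Category.comp_id] at h
  have h2 : tr τ hE' (𝟙 ((Scheme.Modules.pullback f).obj E')) = 𝟙 E' := by
    rw [tr, CategoryTheory.Functor.map_id]
    refine (congrArg (fun t => (Scheme.Modules.pullbackPushforwardAdjunction f).unit.app E' ≫ t)
      (Category.id_comp (rho f τ hE'))).trans (unit_rho hτ hE')
  rw [h, h2, Category.comp_id]

variable (hs : IsSplitMono (ClSub.unitToPush f))

include hs

/-- **Retract.** -/
theorem exists_retract {E : Y.Modules} (hE : HasBases E) :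
    ∃ p : (Scheme.Modules.pushforward f).obj ((Scheme.Modules.pullback f).obj E) ⟶ E,
      (Scheme.Modules.pullbackPushforwardAdjunction f).unit.app E ≫ p = 𝟙 E :=
  ⟨rho f (retraction (ClSub.unitToPush f)) hE, unit_rho (IsSplitMono.id _) hE⟩

theorem nonempty_retract {E : Y.Modules} (hE : HasBases E) :
    Nonempty (Retract E ((Scheme.Modules.pushforward f).obj ((Scheme.Modules.pullback f).obj E))) := by
  obtain ⟨p, hp⟩ := exists_retract hs hE
  exact ⟨{ i := _, r := p, retract := hp }⟩

/-- **Maschke for split monomorphisms.** -/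
theorem exists_split_mono {G E : Y.Modules} (hG : HasBases G) (α : G ⟶ E)
    (h : IsSplitMono ((Scheme.Modules.pullback f).map α)) : IsSplitMono α := by
  refine IsSplitMono.mk' ⟨tr (retraction (ClSub.unitToPush f)) hG (retraction ((Scheme.Modules.pullback f).map α)), ?_⟩
  rw [← map_comp_tr, IsSplitMono.id]
  have h2 := tr_map (f := f) (IsSplitMono.id (ClSub.unitToPush f)) hG (𝟙 G)
  rwa [CategoryTheory.Functor.map_id] at h2

/-- **Maschke for split epimorphisms.** -/
theorem exists_split_epi {G E : Y.Modules} (hG : HasBases G) (hE : HasBases E) (α : E ⟶ G)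
    (h : IsSplitEpi ((Scheme.Modules.pullback f).map α)) : IsSplitEpi α := by
  refine IsSplitEpi.mk' ⟨tr (retraction (ClSub.unitToPush f)) hE (section_ ((Scheme.Modules.pullback f).map α)), ?_⟩
  rw [← tr_comp_map _ hE hG, IsSplitEpi.id]
  have h2 := tr_map (f := f) (IsSplitMono.id (ClSub.unitToPush f)) hG (𝟙 G)
  rwa [CategoryTheory.Functor.map_id] at h2

/-- **Vanishing descends.** -/
theorem subsingleton_HH [IsAffineHom f] {A : Type u} [CommRing A] (y : Y ⟶ Spec (CommRingCat.of A))
    {E : Y.Modules} (hE : HasBases E) (hq : Coh.IsQCoh ((Scheme.Modules.pullback f).obj E)) (i : ℕ)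
    (h : Subsingleton (Coh.HH X ((Scheme.Modules.pullback f).obj E) i)) : Subsingleton (Coh.HH Y E i) := by
  have h1 := CohqB.SerLocFib.subsingleton_HH_push f y _ hq i h
  obtain ⟨p, hp⟩ := exists_retract hs hE
  let u : E ⟶ (Scheme.Modules.pushforward f).obj ((Scheme.Modules.pullback f).obj E) :=
    (Scheme.Modules.pullbackPushforwardAdjunction f).unit.app E
  have hp' : u ≫ p = 𝟙 E := hp
  refine ⟨fun a b => ?_⟩
  have h2 : ∀ x : Coh.HH Y E i, CohqB.LocBaseHH.hmap p i (CohqB.LocBaseHH.hmap u i x) = x := by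
    intro x
    rw [← CohqB.LocBaseHH.hmap_comp, hp', CohqB.LocBaseHH.hmap_id]
  rw [← h2 a, ← h2 b, Subsingleton.elim (CohqB.LocBaseHH.hmap u i a) (CohqB.LocBaseHH.hmap u i b)]

end K231.Cov
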