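import Mathlib.CategoryTheory.Preadditive.Opposite
import Mathlib.CategoryTheory.Preadditive.Schur
import Mathlib.CategoryTheory.Preadditive.Biproducts
import Mathlib.LinearAlgebra.Basis.VectorSpace
import Mathlib.LinearAlgebra.FiniteDimensional.Basic
import Mathlib.Algebra.Field.Basic

/-!
# Objects generated by a brick

`C` preadditive.  `IsBrick N`: `N ≠ 0` and every nonzero endomorphism of `N` is an isomorphism.
`Fac N P`: the identity of `P` is a finite sum of endomorphisms factoring through `N` (`P` is a retract of `N^m`).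

* `Fac.regular`: `ψ : P ⟶ Q`, `Fac N P`, `Fac N Q`: there is `β` with `ψ ≫ β ≫ ψ = ψ`;
* `Fac.exists_basis`: `P` is the sum of `s` copies of `N`.
-/

set_option autoImplicit false
set_option linter.unusedVariables false
set_option linter.unusedSectionVars false
universe v w

open CategoryTheory CategoryTheory.Limits

namespace K231.Brick

section Alg

/-- Linear maps over a division ring are von Neumann regular. -/
theorem exists_regular {R V W : Type*} [DivisionRing R] [AddCommGroup V] [Module R V] [AddCommGroup W] [Module R W]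
    (A : V →ₗ[R] W) : ∃ B : W →ₗ[R] V, ∀ x, A (B (A x)) = A x := by
  obtain ⟨s, hs⟩ := A.rangeRestrict.exists_rightInverse_of_surjective (LinearMap.range_rangeRestrict A)
  obtain ⟨p, hp⟩ := (LinearMap.range A).subtype.exists_leftInverse_of_injective (Submodule.ker_subtype _)
  refine ⟨s ∘ₗ p, fun x => ?_⟩
  have h1 : p (A x) = ⟨A x, LinearMap.mem_range_self A x⟩ := by
    have := LinearMap.congr_fun hp ⟨A x, LinearMap.mem_range_self A x⟩
    exact this
  have h2 : ∀ y, A (s y) = y := fun y => congrArg Subtype.val (LinearMap.congr_fun hs y)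
  change A (s (p (A x))) = A x
  rw [h2, h1]

/-- Linear maps over a division ring are von Neumann regular. -/
theorem exists_regular' {R V W : Type*} [Ring R] [Nontrivial R] (hR : ∀ a : R, IsUnit a ∨ a = 0)
    [AddCommGroup V] [Module R V] [AddCommGroup W] [Module R W]
    (A : V →ₗ[R] W) : ∃ B : W →ₗ[R] V, ∀ x, A (B (A x)) = A x := by
  let i : DivisionRing R := DivisionRing.ofIsUnitOrEqZero hR
  exact @exists_regular R V W i _ _ _ _ A

/-- A finitely generated module over a division ring has a basis. -/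
theorem exists_finBasis {R V : Type*} [Ring R] [Nontrivial R] (hR : ∀ a : R, IsUnit a ∨ a = 0)
    [AddCommGroup V] [Module R V] [Module.Finite R V] :
    ∃ s : ℕ, Nonempty (Module.Basis (Fin s) R V) := by
  let i : DivisionRing R := DivisionRing.ofIsUnitOrEqZero hR
  exact ⟨_, ⟨@Module.finBasis R V i.toRing.toSemiring _ _ _ _ _⟩⟩

end Alg

variable {C : Type w} [Category.{v} C] [Preadditive C]

/-- Nonzero and all nonzero endomorphisms are invertible. -/
def IsBrick (N : C) : Prop := (𝟙 N ≠ 0) ∧ ∀ a : N ⟶ N, a ≠ 0 → IsIso a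

theorem IsBrick.unit {N : C} (hN : IsBrick N) (a : (End N)ᵐᵒᵖ) : IsUnit a ∨ a = 0 := by
  by_cases h : a = 0
  · exact Or.inr h
  · left
    have h1 : (MulOpposite.unop a : N ⟶ N) ≠ 0 := fun h2 => h (MulOpposite.unop_injective h2)
    have h2 := hN.2 _ h1
    have h3 : IsUnit (MulOpposite.unop a : End N) := (isUnit_iff_isIso _).2 h2
    exact h3.op

theorem IsBrick.nontrivial {N : C} (hN : IsBrick N) : Nontrivial (End N)ᵐᵒᵖ :=
  ⟨⟨1, 0, fun h => hN.1 (MulOpposite.op_injective h)⟩⟩

/-- The identity of `P` is a finite sum of endomorphisms factoring through `N`. -/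
def Fac (N P : C) : Prop :=
  ∃ (m : ℕ) (a : Fin m → (N ⟶ P)) (b : Fin m → (P ⟶ N)), ∑ i, b i ≫ a i = 𝟙 P

theorem Fac.of_retract {N P P' : C} (h : Fac N P) (i : P' ⟶ P) (p : P ⟶ P') (hip : i ≫ p = 𝟙 P') : Fac N P' := by
  obtain ⟨m, a, b, hab⟩ := h
  refine ⟨m, fun j => a j ≫ p, fun j => i ≫ b j, ?_⟩
  rw [← hip]
  calc ∑ j, (i ≫ b j) ≫ a j ≫ p = i ≫ (∑ j, b j ≫ a j) ≫ p := by
        rw [Preadditive.sum_comp, Preadditive.comp_sum]
        refine Finset.sum_congr rfl fun j _ => ?_
        simp only [Category.assoc]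
    _ = i ≫ p := by rw [hab, Category.id_comp]

theorem Fac.of_iso {N P P' : C} (h : Fac N P) (e : P ≅ P') : Fac N P' :=
  h.of_retract e.inv e.hom e.inv_hom_id

theorem Fac.self (N : C) : Fac N N := ⟨1, fun _ => 𝟙 N, fun _ => 𝟙 N, by simp⟩

theorem Fac.coprod (N : C) (m : ℕ) [HasCoproduct (fun _ : Fin m => N)] : Fac N (∐ fun _ : Fin m => N) := by
  classical
  refine ⟨m, fun i => Sigma.ι (fun _ : Fin m => N) i, fun i => Sigma.desc fun j => if j = i then 𝟙 N else 0, ?_⟩
  refine Sigma.hom_ext _ _ fun j => ?_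
  rw [Preadditive.comp_sum, Finset.sum_eq_single j]
  · simp
  · intro i _ hi
    rw [Sigma.ι_desc_assoc, if_neg (Ne.symm hi), zero_comp]
  · simp

theorem Fac.pow {N : C} {ι : Type*} [Finite ι] [HasCoproduct (fun _ : ι => N)] : Fac N (∐ fun _ : ι => N) := by
  classical
  obtain ⟨m, ⟨e⟩⟩ := Finite.exists_equiv_fin ι
  refine ⟨m, fun i => Sigma.ι (fun _ : ι => N) (e.symm i),
    fun i => Sigma.desc fun j => if j = e.symm i then 𝟙 N else 0, ?_⟩
  refine Sigma.hom_ext _ _ fun j => ?_
  rw [Preadditive.comp_sum, Finset.sum_eq_single (e j)]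
  · simp
  · intro i _ hi
    rw [Sigma.ι_desc_assoc, if_neg (fun h => hi (by rw [h, e.apply_symm_apply])), zero_comp]
  · simp

/-- **Regularity.** -/
theorem Fac.regular {N P Q : C} (hN : IsBrick N) (hP : Fac N P) (hQ : Fac N Q) (ψ : P ⟶ Q) :
    ∃ β : Q ⟶ P, ψ ≫ β ≫ ψ = ψ := by
  have hnt := hN.nontrivial
  obtain ⟨m, a, a', ha⟩ := hP
  obtain ⟨n, b, b', hb⟩ := hQ
  let A : (N ⟶ P) →ₗ[(End N)ᵐᵒᵖ] (N ⟶ Q) :=
    { toFun := fun x => x ≫ ψ
      map_add' := fun x y => Preadditive.add_comp _ _ _ _ _ _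
      map_smul' := fun c x => Category.assoc _ _ _ }
  obtain ⟨B, hB⟩ := exists_regular' hN.unit A
  let β : Q ⟶ P := ∑ j, b' j ≫ B (b j)
  have h1 : ∀ x : N ⟶ Q, x ≫ β = B x := by
    intro x
    have h2 : x = ∑ j, (MulOpposite.op (x ≫ b' j : N ⟶ N) : (End N)ᵐᵒᵖ) • b j := by
      calc x = x ≫ (∑ j, b' j ≫ b j) := by rw [hb, Category.comp_id]
        _ = _ := by
          rw [Preadditive.comp_sum]
          exact Finset.sum_congr rfl fun j _ => (Category.assoc _ _ _).symm
    conv_rhs => rw [h2, map_sum]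
    rw [Preadditive.comp_sum]
    refine Finset.sum_congr rfl fun j _ => ?_
    rw [map_smul]
    exact (Category.assoc _ _ _).symm
  clear_value β
  refine ⟨β, ?_⟩
  have h3 : ∀ x : N ⟶ P, x ≫ ψ ≫ β ≫ ψ = x ≫ ψ := by
    intro x
    have h4 := h1 (x ≫ ψ)
    rw [← Category.assoc, ← Category.assoc, h4]
    exact hB x
  calc ψ ≫ β ≫ ψ = (∑ i, a' i ≫ a i) ≫ ψ ≫ β ≫ ψ := by rw [ha, Category.id_comp]
    _ = (∑ i, a' i ≫ a i) ≫ ψ := by
      rw [Preadditive.sum_comp, Preadditive.sum_comp]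
      exact Finset.sum_congr rfl fun i _ => by rw [Category.assoc, Category.assoc, h3]
    _ = ψ := by rw [ha, Category.id_comp]

/-- **`P` is a direct sum of copies of the brick.** -/
theorem Fac.exists_basis {N P : C} (hN : IsBrick N) (hP : Fac N P) :
    ∃ (s : ℕ) (a : Fin s → (N ⟶ P)) (b : Fin s → (P ⟶ N)), ∑ i, b i ≫ a i = 𝟙 P ∧
      ∀ i j, a i ≫ b j = if i = j then 𝟙 N else 0 := by
  classical
  have hnt := hN.nontrivial
  obtain ⟨m, a, a', ha⟩ := hP
  have hspan : ∀ x : N ⟶ P, x ∈ Submodule.span (End N)ᵐᵒᵖ (Set.range a) := by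
    intro x
    have h2 : x = ∑ j, (MulOpposite.op (x ≫ a' j : N ⟶ N) : (End N)ᵐᵒᵖ) • a j := by
      calc x = x ≫ (∑ j, a' j ≫ a j) := by rw [ha, Category.comp_id]
        _ = _ := by
          rw [Preadditive.comp_sum]
          exact Finset.sum_congr rfl fun j _ => (Category.assoc _ _ _).symm
    rw [h2]
    exact Submodule.sum_mem _ fun j _ => Submodule.smul_mem _ _ (Submodule.subset_span ⟨j, rfl⟩)
  have hfin : Module.Finite (End N)ᵐᵒᵖ (N ⟶ P) :=
    ⟨⟨(Set.finite_range a).toFinset, by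
      rw [Set.Finite.coe_toFinset]
      exact eq_top_iff.2 fun x _ => hspan x⟩⟩
  obtain ⟨s, ⟨e⟩⟩ := exists_finBasis (V := (N ⟶ P)) hN.unit
  let b : Fin s → (P ⟶ N) := fun j => ∑ i, a' i ≫ (MulOpposite.unop (e.repr (a i) j) : N ⟶ N)
  have h1 : ∑ j, b j ≫ e j = 𝟙 P := by
    rw [← ha]
    calc ∑ j, b j ≫ e j = ∑ j, ∑ i, a' i ≫ (e.repr (a i) j • e j) := by
          refine Finset.sum_congr rfl fun j _ => ?_
          rw [Preadditive.sum_comp]
          exact Finset.sum_congr rfl fun i _ => Category.assoc _ _ _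
      _ = ∑ i, ∑ j, a' i ≫ (e.repr (a i) j • e j) := Finset.sum_comm
      _ = ∑ i, a' i ≫ a i := by
        refine Finset.sum_congr rfl fun i _ => ?_
        rw [← Preadditive.comp_sum, e.sum_repr]
  refine ⟨s, e, b, h1, fun i j => ?_⟩
  have h2 : e i = ∑ j, (MulOpposite.op (e i ≫ b j : N ⟶ N) : (End N)ᵐᵒᵖ) • e j := by
    calc e i = e i ≫ (∑ j, b j ≫ e j) := by rw [h1, Category.comp_id]
      _ = _ := by
        rw [Preadditive.comp_sum]
        exact Finset.sum_congr rfl fun j _ => (Category.assoc _ _ _).symm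
  have h3 := congrArg (fun v => e.repr v j) h2
  simp only [map_sum, map_smul, Module.Basis.repr_self, Finsupp.coe_finsetSum, Finset.sum_apply,
    Finsupp.smul_apply, smul_eq_mul] at h3
  rw [Finset.sum_eq_single j (fun l _ hl => by rw [Finsupp.single_eq_of_ne (Ne.symm hl), mul_zero]) (by simp),
    Finsupp.single_eq_same, mul_one] at h3
  have h4 := congrArg MulOpposite.unop h3
  rw [MulOpposite.unop_op] at h4
  refine Eq.trans h4.symm ?_
  by_cases h : i = j
  · subst h
    rw [Finsupp.single_eq_same, if_pos rfl]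
    rfl
  · rw [Finsupp.single_eq_of_ne (Ne.symm h), if_neg h]
    rfl

/-- A retract of a power of a brick is a power of the brick. -/
theorem Fac.exists_iso [HasFiniteCoproducts C] {N P : C} (hN : IsBrick N) (hP : Fac N P) :
    ∃ s : ℕ, Nonempty (P ≅ ∐ fun _ : Fin s => N) := by
  classical
  obtain ⟨s, a, b, h1, h2⟩ := hP.exists_basis hN
  refine ⟨s, ⟨{ hom := ∑ i, b i ≫ Sigma.ι (fun _ : Fin s => N) i
                inv := Sigma.desc a
                hom_inv_id := ?_
                inv_hom_id := ?_ }⟩⟩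
  · rw [Preadditive.sum_comp, ← h1]
    exact Finset.sum_congr rfl fun i _ => by rw [Category.assoc, Sigma.ι_desc]
  · refine Sigma.hom_ext _ _ fun j => ?_
    rw [Sigma.ι_desc_assoc, Preadditive.comp_sum, Finset.sum_eq_single j]
    · rw [← Category.assoc, h2, if_pos rfl, Category.id_comp, Category.comp_id]
    · intro i _ hi
      rw [← Category.assoc, h2, if_neg (Ne.symm hi), zero_comp]
    · simp

/-- A nonzero object generated by `N` has a nonzero morphism to `N`. -/
theorem Fac.exists_ne_zero {N P : C} (hP : Fac N P) (h : 𝟙 P ≠ 0) : ∃ b : P ⟶ N, b ≠ 0 := by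
  obtain ⟨m, a, b, hab⟩ := hP
  by_contra hc
  push Not at hc
  apply h
  rw [← hab]
  exact Finset.sum_eq_zero fun i _ => by rw [hc (b i), zero_comp]

end K231.Brick
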