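import Groth.Agent.BunMod.K231.Schur
import Groth.Agent.FormalB.PullSys
import Mathlib.CategoryTheory.Preadditive.Schur

/-!
# Counting indecomposable summands of `f_* N`

* `le_finrank` : `f^* W ≅ N^m` implies `m ≤ dim Hom(W, f_* N)`;
* `finrank_hom_le` : `dim Hom(W, ∐ W_i)` is at most the number of `i` with `W_i ≅ W` (Schur).
-/

set_option autoImplicit false
set_option linter.unusedVariables false
set_option linter.unusedSectionVars false
universe u w v

open CategoryTheory CategoryTheory.Limits AlgebraicGeometry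

namespace K231.HomCount

open Groth.Agent Groth.Agent.VarietyB.TensCoh K231.Brick K231.Cov K231.Schur
open K790.KS (Indec)

section Abs

variable {k : Type*} [Field k] {C : Type w} [Category.{v} C] [Preadditive C] [Linear k C]

/-- `dim Hom(W, ∐ W_i) ≤ #{i | W_i ≅ W}`. -/
theorem finrank_hom_le {s : ℕ} {W : C} {Ws : Fin s → C} [HasCoproduct Ws]
    (hfin : ∀ i, Module.Finite k (W ⟶ Ws i))
    (h0 : ∀ i, ¬ Nonempty (Ws i ≅ W) → ∀ φ : W ⟶ Ws i, φ = 0)
    (h1 : Module.finrank k (W ⟶ W) = 1) :
    Module.finrank k (W ⟶ ∐ Ws) ≤ Nat.card {i : Fin s // Nonempty (Ws i ≅ W)} := by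
  classical
  let π : ∀ i, (∐ Ws) ⟶ Ws i := fun i => Sigma.desc fun j => if e : j = i then eqToHom (by rw [e]) else 0
  have hπ : ∑ i, π i ≫ Sigma.ι Ws i = 𝟙 (∐ Ws) := by
    refine Sigma.hom_ext _ _ fun j => ?_
    rw [Preadditive.comp_sum, Finset.sum_eq_single j]
    · simp [π]
    · intro i _ hi
      rw [Sigma.ι_desc_assoc, dif_neg (Ne.symm hi), zero_comp]
    · simp
  let T : (W ⟶ ∐ Ws) →ₗ[k] (∀ i, W ⟶ Ws i) :=
    LinearMap.pi fun i => Linear.rightComp k W (π i)
  have hT : Function.Injective T := by
    intro φ ψ h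
    have h2 : ∀ i, φ ≫ π i = ψ ≫ π i := fun i => congrFun h i
    rw [← Category.comp_id φ, ← Category.comp_id ψ, ← hπ, Preadditive.comp_sum, Preadditive.comp_sum]
    exact Finset.sum_congr rfl fun i _ => by rw [← Category.assoc, h2, Category.assoc]
  refine (LinearMap.finrank_le_finrank_of_injective hT).trans ?_
  rw [Module.finrank_pi_fintype, Nat.card_eq_fintype_card, Fintype.card_subtype, Finset.card_filter]
  refine Finset.sum_le_sum fun i _ => ?_
  split_ifs with h
  · obtain ⟨e⟩ := h
    refine le_of_eq (Eq.trans ?_ h1)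
    exact (LinearEquiv.ofLinearMap (Linear.rightComp k W e.hom) (Linear.rightComp k W e.inv)
      (by ext φ; simp [Linear.rightComp]) (by ext φ; simp [Linear.rightComp])).finrank_eq
  · have : Subsingleton (W ⟶ Ws i) := ⟨fun a b => by rw [h0 i h a, h0 i h b]⟩
    rw [Module.finrank_zero_of_subsingleton]

end Abs

attribute [local instance] CurvesC.LinMod.linearModules

variable {k : Type u} [Field k] {X Y : Scheme.{u}} [X.Over (Spec (CommRingCat.of k))]
  [Y.Over (Spec (CommRingCat.of k))] {f : X ⟶ Y}
  (hf : f ≫ (Y ↘ Spec (CommRingCat.of k)) = X ↘ Spec (CommRingCat.of k))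

include hf

theorem homEquiv_smul {M : Y.Modules} {N : X.Modules} (c : k) (φ : (Scheme.Modules.pullback f).obj M ⟶ N) :
    (Scheme.Modules.pullbackPushforwardAdjunction f).homEquiv M N (c • φ) =
      c • (Scheme.Modules.pullbackPushforwardAdjunction f).homEquiv M N φ := by
  have h := FormalB.PullSys.pushforward_smulMod f hf N c
  rw [CurvesC.LinMod.smul_def, CurvesC.LinMod.smul_def, Adjunction.homEquiv_unit, Adjunction.homEquiv_unit,
    Functor.map_comp, Category.assoc]
  exact congrArg (fun t => (Scheme.Modules.pullbackPushforwardAdjunction f).unit.app M ≫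
    (Scheme.Modules.pushforward f).map φ ≫ t) h

/-- The `m` projections `f^* W ≅ N^m ⟶ N` give independent maps `W ⟶ f_* N`. -/
theorem le_finrank {N : X.Modules} (hN : 𝟙 N ≠ 0) {W : Y.Modules} {m : ℕ}
    (e : (Scheme.Modules.pullback f).obj W ≅ ∐ fun _ : Fin m => N)
    [Module.Finite k (W ⟶ (Scheme.Modules.pushforward f).obj N)] :
    m ≤ Module.finrank k (W ⟶ (Scheme.Modules.pushforward f).obj N) := by
  classical
  let adj := Scheme.Modules.pullbackPushforwardAdjunction f
  let p : Fin m → ((Scheme.Modules.pullback f).obj W ⟶ N) := fun i =>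
    e.hom ≫ Sigma.desc fun j => if j = i then 𝟙 N else 0
  let q : Fin m → (W ⟶ (Scheme.Modules.pushforward f).obj N) := fun i => adj.homEquiv W N (p i)
  have hadd : ∀ a b : (Scheme.Modules.pullback f).obj W ⟶ N,
      adj.homEquiv W N (a + b) = adj.homEquiv W N a + adj.homEquiv W N b := fun a b => by
    rw [Adjunction.homEquiv_unit, Adjunction.homEquiv_unit, Adjunction.homEquiv_unit, Functor.map_add,
      Preadditive.comp_add]
  let A : ((Scheme.Modules.pullback f).obj W ⟶ N) →ₗ[k] (W ⟶ (Scheme.Modules.pushforward f).obj N) :=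
    { toFun := adj.homEquiv W N
      map_add' := hadd
      map_smul' := fun c φ => homEquiv_smul hf c φ }
  have hA : Function.Injective A := (adj.homEquiv W N).injective
  have hli : LinearIndependent k q := by
    have h1 : LinearIndependent k p := by
      rw [Fintype.linearIndependent_iff]
      intro c hc i
      have h2 : Sigma.ι (fun _ : Fin m => N) i ≫ e.inv ≫ (∑ j, c j • p j) = c i • 𝟙 N := by
        rw [Preadditive.comp_sum, Preadditive.comp_sum, Finset.sum_eq_single i]
        · rw [Linear.comp_smul, Linear.comp_smul, Iso.inv_hom_id_assoc, Sigma.ι_desc, if_pos rfl]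
        · intro j _ hj
          rw [Linear.comp_smul, Linear.comp_smul, Iso.inv_hom_id_assoc, Sigma.ι_desc, if_neg (Ne.symm hj), smul_zero]
        · simp
      rw [hc, comp_zero, comp_zero] at h2
      by_contra hci
      exact (smul_ne_zero hci hN) h2.symm
    exact h1.map' A (LinearMap.ker_eq_bot.2 hA)
  simpa using hli.fintype_card_le_finrank

end K231.HomCount
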