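import Groth.Agent.BunMod.K231.Sum
import Groth.Agent.BunMod.K231.HomCount
import Groth.Agent.BunMod.K808.Verl
import Groth.Agent.VarietyB.ClosedInter
import Groth.Agent.VBPn.K700.HDim

/-!
# Modules `E` with `[r]^* E ≅ (L^r)^v` (BunMod F2i)

* `exists_simple` : there is one indecomposable `W` such that every finite locally free `E` with `[r]^* E` a sum of
  copies of `L^r` is a power of `W`;
* `tensor_iso_of_verD` (F2i).
-/

set_option autoImplicit false
set_option linter.unusedVariables false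
set_option linter.unusedSectionVars false
universe u

open CategoryTheory CategoryTheory.Limits AlgebraicGeometry MonoidalCategory CartesianMonoidalCategory
open scoped MonObj
open Groth.Agent Groth.Agent.VarietyB.TensCoh Groth.Agent.Grpsch.PicGrp Groth.Agent.Fdesc.LocGen
open Groth.Agent.BunMod.K596
open K231.Brick K231.Cov K231.Schur
open K790.KS (Indec)

namespace K231.Iso

variable {k : Type u} [Field k] [IsAlgClosed k] [CharZero k] {J : Over (Spec (CommRingCat.of k))} [GrpObj J]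
  {L : J.left.Modules} {g : ℕ}

omit [CharZero k] in
/-- Translations by the kernel of `[r]` fix `L^r`. -/
theorem nonempty_translate (hJ : PPAV g J L) (r : ℕ) (a : 𝟙_ (Over (Spec (CommRingCat.of k))) ⟶ J)
    (ha : a ≫ ((𝟙 J) ^ r : J ⟶ J) = 1) :
    Nonempty ((Scheme.Modules.pullback (𝟙 J * (toUnit J ≫ a)).left).obj (CohB1.tensorPow L (r * 1)) ≅
      CohB1.tensorPow L (r * 1)) := by
  have := hJ.proper
  have := hJ.gint
  have hN : PicF.IsInvertible (CohB1.tensorPow L (r * 1)) := isInvertible_tensorPow hJ.inv _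
  rw [← mk_eq_iff (isInvertible_pullback _ hN) hN, ← pull_mk _ hN, mk_tensorPow hJ.inv, mul_one]
  have h1 : K506.Transl.phi (mk L hJ.inv ^ r) a = 1 := by
    rw [K506.Transl.phi_cpow, ← K506.Transl.phi_pow]
    have h2 : a ^ r = 1 := by
      rw [MonObj.comp_pow, Category.comp_id] at ha
      exact ha
    rw [h2, K506.Transl.phi_one]
  exact mul_inv_eq_one.1 h1

/-- The classification of the modules `E` with `[r]^* E` generated by `L^r`. -/
theorem exists_simple (hJ : PPAV g J L) {r : ℕ} (hr : 1 ≤ r) :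
    ∃ W : J.left.Modules, 0 < @Module.finrank k (Coh.HH J.left W 0) _ _ (@Coh.moduleOver k _ J.left ⟨J.hom⟩ W 0) ∧
      FlatMod.IsFinLocFree W ∧ ∀ E : J.left.Modules, FlatMod.IsFinLocFree E →
        Fac (CohB1.tensorPow L (r * 1)) ((Scheme.Modules.pullback ((𝟙 J) ^ r : J ⟶ J).left).obj E) →
        ∃ t : ℕ, Nonempty (E ≅ ∐ fun _ : Fin t => W) := by
  let _ : J.left.Over (Spec (CommRingCat.of k)) := ⟨J.hom⟩
  let _ := CurvesC.LinMod.linearModules k J.left
  have := hJ.proper
  have hprop : IsProper (J.left ↘ Spec (CommRingCat.of k)) := hJ.proper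
  have := hJ.gint
  have hc : IsCommMonObj J := hJ.comm
  have hint := Mul.isIntegral_left J
  have h1 := Grpsch.MulFin.isFinite_pow J r hr
  have h2 := Grpsch.MulFin.flat_pow J r hr
  have h3 := Grpsch.MulFin.surjective_pow J r hr
  have hmon : IsMonHom ((𝟙 J) ^ r : J ⟶ J) := inferInstance
  let π : J ⟶ J := (𝟙 J) ^ r
  have hlofp := Mul.lofp π
  have hs : IsSplitMono (ClSub.unitToPush π.left) := Mul.isSplitMono J r hr
  let N := CohB1.tensorPow L (r * 1)
  have hNi : PicF.IsInvertible N := isInvertible_tensorPow hJ.inv _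
  have hN : IsBrick N := Schur.isBrick_of_isInvertible k J.hom hNi
  have hNq : Coh.IsQCoh N := PerfA.QCohEpi.isQCoh_of_isFinLocFree (K790.Isotyp.isFinLocFree_of_isInvertible hNi)
  let G := (Scheme.Modules.pushforward π.left).obj N
  have hG : FlatMod.IsFinLocFree G :=
    PerfB.PushFLF.isFinLocFree_pushforward π.left (K790.Isotyp.isFinLocFree_of_isInvertible hNi)
  have hGc : Coh.IsCoh G := K790.Isotyp.isCoh_of_isFinLocFree hG
  have hGf : Fac N ((Scheme.Modules.pullback π.left).obj G) :=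
    Sum.fac_push π hNq fun a ha => nonempty_translate hJ r a ha
  obtain ⟨s, W, ⟨e⟩, hW⟩ := Schur.exists_decomp k J.hom hG hGf
  have hfinHH : ∀ {M : J.left.Modules}, Coh.IsCoh M → Module.Finite k (Coh.HH J.left M 0) := fun hM =>
    S0002.result k J.left _ hM 0
  -- the ranks
  have hrk : ∀ i, ∃ m : ℕ, 0 < m ∧ Nonempty ((Scheme.Modules.pullback π.left).obj (W i) ≅ ∐ fun _ : Fin m => N) := by
    intro i
    obtain ⟨m, ⟨em⟩⟩ := (hW i).2.2.exists_iso hN
    refine ⟨m, ?_, ⟨em⟩⟩
    rcases Nat.eq_zero_or_pos m with h | h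
    · exfalso
      subst h
      refine not_isZero_pullback hs (HasBases.of_isFinLocFree (hW i).2.1) (hW i).1.1 ?_
      refine IsZero.of_iso ?_ em
      rw [IsZero.iff_id_eq_zero]
      exact Sigma.hom_ext _ _ (fun j => j.elim0)
    · exact h
  choose m hm0 hm using hrk
  have hver : ∀ i, VerD J L r 1 (m i) (W i) := fun i => ⟨(hW i).2.1, hm0 i, hm i⟩
  have hh0 : ∀ i, Module.finrank k (Coh.HH J.left (W i) 0) * r ^ g = m i := fun i => by
    have := K808.Verl.h0_of_verD hJ hr le_rfl (hver i)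
    rw [one_pow, mul_one] at this
    exact this
  have hrg : 0 < r ^ g := Nat.pow_pos hr
  have hpos : ∀ i, 0 < Module.finrank k (Coh.HH J.left (W i) 0) := fun i => by
    rcases Nat.eq_zero_or_pos (Module.finrank k (Coh.HH J.left (W i) 0)) with h | h
    · have := hh0 i
      rw [h, zero_mul] at this
      exact absurd this.symm (hm0 i).ne'
    · exact h
  have hmr : ∀ i, r ^ g ≤ m i := fun i => by
    rw [← hh0 i]
    exact Nat.le_mul_of_pos_left _ (hpos i)
  -- the number of summands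
  have hsum : ∑ i, Module.finrank k (Coh.HH J.left (W i) 0) = r ^ g := by
    have e1 : Module.finrank k (Coh.HH J.left G 0) = Module.finrank k (Coh.HH J.left N 0) :=
      VarietyB.ClosedInter.finrank_hZero_push k π.left (Over.w π) N
    have e2 : Module.finrank k (Coh.HH J.left N 0) = (r * 1) ^ g := hJ.h0 (r * 1) (by omega)
    rw [mul_one] at e2
    rw [← e2, ← e1]
    have e3 := K700.HDim.fr_iso k (e ≪≫ (biproduct.isoCoproduct W).symm) 0
    refine Eq.trans ?_ e3.symm
    have : ∀ j, Module.Finite k (Coh.HH J.left (W j) 0) := fun j =>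
      hfinHH (K790.Isotyp.isCoh_of_isFinLocFree (hW j).2.1)
    rw [K700.HDim.fr, (K700.HDim.biprodEquiv k W 0).finrank_eq, Module.finrank_pi_fintype]
  have hs1 : s ≤ r ^ g := by
    rw [← hsum]
    calc s = ∑ i : Fin s, 1 := by simp
      _ ≤ _ := Finset.sum_le_sum fun i _ => hpos i
  have hs0 : 0 < s := by
    rcases Nat.eq_zero_or_pos s with h | h
    · subst h
      rw [Finset.univ_eq_empty, Finset.sum_empty] at hsum
      omega
    · exact h
  let i0 : Fin s := ⟨0, hs0⟩
  have hWc : ∀ i, Coh.IsCoh (W i) := fun i => K790.Isotyp.isCoh_of_isFinLocFree (hW i).2.1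
  have hfinHom : ∀ i, Module.Finite k (W i0 ⟶ W i) := fun i => K792.HomFin.finite_hom k _ _ (hWc _) (hWc _)
  have hfinG : Module.Finite k (W i0 ⟶ G) := K792.HomFin.finite_hom k _ _ (hWc _) hGc
  have hschur : ∀ i j (φ : W i ⟶ W j), φ ≠ 0 → IsIso φ := fun i j φ hφ =>
    isIso_of_ne_zero hs hN (HasBases.of_isFinLocFree (hW i).2.1) (HasBases.of_isFinLocFree (hW j).2.1)
      (hW i).2.2 (hW j).2.2 (hW i).1 (hW j).1 φ hφ
  have hend : Module.finrank k (W i0 ⟶ W i0) = 1 := by
    refine finrank_endomorphism_eq_one k fun φ => ⟨fun h h0 => ?_, hschur i0 i0 φ⟩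
    subst h0
    apply (hW i0).1.1
    rw [IsZero.iff_id_eq_zero, ← IsIso.hom_inv_id (0 : W i0 ⟶ W i0), zero_comp]
  obtain ⟨em⟩ := hm i0
  have hle1 : m i0 ≤ Module.finrank k (W i0 ⟶ G) :=
    HomCount.le_finrank (k := k) (Over.w π) hN.1 em
  have hle2 : Module.finrank k (W i0 ⟶ G) = Module.finrank k (W i0 ⟶ ∐ W) :=
    (LinearEquiv.ofLinearMap (Linear.rightComp k (W i0) e.hom) (Linear.rightComp k (W i0) e.inv)
      (by ext φ; simp [Linear.rightComp]) (by ext φ; simp [Linear.rightComp])).finrank_eq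
  have hle3 := HomCount.finrank_hom_le (k := k) (W := W i0) (Ws := W) hfinHom
    (fun i hi φ => by
      by_contra hφ
      have := hschur i0 i φ hφ
      exact hi ⟨(asIso φ).symm⟩) hend
  have hall : ∀ i, Nonempty (W i ≅ W i0) := by
    have hcard : Nat.card {i : Fin s // Nonempty (W i ≅ W i0)} = Nat.card (Fin s) := by
      refine le_antisymm (Nat.card_le_card_of_injective _ Subtype.val_injective) ?_
      rw [Nat.card_eq_fintype_card, Fintype.card_fin]
      have := hmr i0
      omega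
    have hsurj : Function.Surjective (Subtype.val : {i : Fin s // Nonempty (W i ≅ W i0)} → Fin s) := by
      refine ((Nat.bijective_iff_injective_and_card _).2 ⟨Subtype.val_injective, hcard⟩).2
    intro i
    obtain ⟨⟨j, hj⟩, rfl⟩ := hsurj i
    exact hj
  refine ⟨W i0, hpos i0, (hW i0).2.1, fun E hE hEf => ?_⟩
  obtain ⟨t, V, ⟨eV⟩, hV⟩ := Schur.exists_decomp k J.hom hE hEf
  have key : ∀ j, Nonempty (V j ≅ W i0) := by
    intro j
    obtain ⟨hj1, hj2, hj3⟩ := hV j
    have hjb := HasBases.of_isFinLocFree hj2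
    obtain ⟨φ, hφ⟩ := exists_ne_zero_push (not_isZero_pullback hs hjb hj1.1) hj3
    have hφ' : φ ≫ e.hom ≠ 0 := fun h0 => hφ (by
      rw [← Category.comp_id φ]
      exact (congrArg (φ ≫ ·) e.hom_inv_id.symm).trans (by rw [← Category.assoc, h0, zero_comp]))
    obtain ⟨i, p, hp⟩ := exists_proj_ne_zero W (φ ≫ e.hom) hφ'
    have := isIso_of_ne_zero hs hN hjb (HasBases.of_isFinLocFree (hW i).2.1) hj3 (hW i).2.2 hj1 (hW i).1
      ((φ ≫ e.hom) ≫ p) hp
    obtain ⟨e'⟩ := hall i
    exact ⟨asIso ((φ ≫ e.hom) ≫ p) ≪≫ e'⟩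
  exact ⟨t, ⟨eV ≪≫ Sigma.mapIso fun j => (key j).some⟩⟩

/-- F2i. -/
theorem tensor_iso_of_verD (hJ : PPAV g J L) {r v : ℕ} (hr : 1 ≤ r) {E : J.left.Modules}
    (hE : VerD J L r 1 v E) (P : J.left.Modules) (hP : PicF.IsInvertible P)
    (hPr : Nonempty (CohB1.tensorPow P r ≅ Coh.structureModule J.left)) :
    Nonempty (CohB1.tensorMod E P ≅ E) := by
  let _ : J.left.Over (Spec (CommRingCat.of k)) := ⟨J.hom⟩
  have := hJ.proper
  have hprop : IsProper (J.left ↘ Spec (CommRingCat.of k)) := hJ.proper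
  have := hJ.gint
  obtain ⟨W, hW0, hWf, hW⟩ := exists_simple hJ hr
  obtain ⟨eP⟩ := (Sum.nonempty_tensorPow_iff hJ hr hP).1 hPr
  obtain ⟨e⟩ := hE.iso
  obtain ⟨e'⟩ := Mul.pullback_tensor_iso ((𝟙 J) ^ r : J ⟶ J).left (α := P) e
  have hEP : VerD J L r 1 v (CohB1.tensorMod E P) :=
    ⟨Sga67.LocBasis.isFinLocFree_tensorMod hE.locFree (K790.Isotyp.isFinLocFree_of_isInvertible hP), hE.pos,
      ⟨e' ≪≫ Sigma.mapIso fun _ => ASBun.K791.Tens.tensMap (Iso.refl _) eP ≪≫ ASBun.K791.Tens.tensRUnit _⟩⟩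
  obtain ⟨t, ⟨et⟩⟩ := hW E hE.locFree ((Fac.coprod _ v).of_iso e.symm)
  obtain ⟨t', ⟨et'⟩⟩ := hW _ hEP.locFree ((Fac.coprod _ v).of_iso hEP.iso.some.symm)
  have h1 := K808.Verl.h0_of_verD hJ hr le_rfl hE
  have h2 := K808.Verl.h0_of_verD hJ hr le_rfl hEP
  have hrg : 0 < r ^ g := Nat.pow_pos hr
  have hfin : Module.Finite k (Coh.HH J.left W 0) :=
    S0002.result k J.left _ (K790.Isotyp.isCoh_of_isFinLocFree hWf) 0
  have h3 := K700.HDim.fr_sigma_const k et 0
  have h4 := K700.HDim.fr_sigma_const k et' 0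
  have h5 : Module.finrank k (Coh.HH J.left E 0) = Module.finrank k (Coh.HH J.left (CohB1.tensorMod E P) 0) :=
    Nat.eq_of_mul_eq_mul_right hrg (h1.trans h2.symm)
  have h6 : t = t' := Nat.eq_of_mul_eq_mul_right hW0 (h3.symm.trans (h5.trans h4))
  subst h6
  exact ⟨et' ≪≫ et.symm⟩

end K231.Iso
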