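import Groth.Agent.BunMod.K231.Cov
import Groth.Agent.BunMod.K231.Brick
import Groth.Agent.ASBun.K790.Line
import Groth.Agent.ASBun.K791.Tens
import Groth.Agent.Dcoh.Spread

/-!
# Semisimplicity of the category of modules with `f^* E ≅ N^v`

`f : X ⟶ Y` with `O_Y ⟶ f_* O_X` a split monomorphism (`K231.Cov`), `N` a brick on `X` (for instance an invertible
module on a proper integral scheme over an algebraically closed field).

* `exists_reg` : every `φ : W ⟶ W'` with `f^* W`, `f^* W'` generated by `N` is von Neumann regular;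
* `isIso_of_ne_zero` (Schur): nonzero morphisms between indecomposable such modules are isomorphisms;
* `isBrick_of_isInvertible`;
* `exists_decomp` : decomposition into indecomposables.
-/

set_option autoImplicit false
set_option linter.unusedVariables false
set_option linter.unusedSectionVars false
universe u w v

open CategoryTheory CategoryTheory.Limits AlgebraicGeometry

namespace K231.Schur

open Groth.Agent Groth.Agent.VarietyB.TensCoh K231.Brick K231.Cov
open K790.KS (Indec LocalEnd)

section General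

variable {C : Type w} [Category.{v} C] [Preadditive C]

/-- A nonzero morphism to a finite coproduct has a nonzero component. -/
theorem exists_proj_ne_zero {n : ℕ} {W : C} (G : Fin n → C) [HasCoproduct G] (φ : W ⟶ ∐ G) (h : φ ≠ 0) :
    ∃ (i : Fin n) (p : (∐ G) ⟶ G i), φ ≫ p ≠ 0 := by
  classical
  by_contra hc
  push Not at hc
  apply h
  let π : ∀ i, (∐ G) ⟶ G i := fun i => Sigma.desc fun j => if e : j = i then eqToHom (by rw [e]) else 0
  have h1 : ∑ i, π i ≫ Sigma.ι G i = 𝟙 (∐ G) := by
    refine Sigma.hom_ext _ _ fun j => ?_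
    rw [Preadditive.comp_sum, Finset.sum_eq_single j]
    · simp [π]
    · intro i _ hi
      rw [Sigma.ι_desc_assoc, dif_neg (Ne.symm hi), zero_comp]
    · simp
  calc φ = φ ≫ ∑ i, π i ≫ Sigma.ι G i := by rw [h1, Category.comp_id]
    _ = ∑ i, (φ ≫ π i) ≫ Sigma.ι G i := by
      rw [Preadditive.comp_sum]
      exact Finset.sum_congr rfl fun i _ => (Category.assoc _ _ _).symm
    _ = 0 := Finset.sum_eq_zero fun i _ => by rw [hc i (π i), zero_comp]

/-- The coprojections are split monomorphisms. -/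
theorem exists_proj {n : ℕ} (G : Fin n → C) [HasCoproduct G] (i : Fin n) :
    ∃ p : (∐ G) ⟶ G i, Sigma.ι G i ≫ p = 𝟙 (G i) := by
  classical
  refine ⟨Sigma.desc fun j => if e : j = i then eqToHom (by rw [e]) else 0, ?_⟩
  simp

end General

variable {X Y : Scheme.{u}} {f : X ⟶ Y}

theorem fac_pullback_of_retract {N : X.Modules} {P P' : Y.Modules} (h : Fac N ((Scheme.Modules.pullback f).obj P))
    (i : P' ⟶ P) (p : P ⟶ P') (hip : i ≫ p = 𝟙 P') : Fac N ((Scheme.Modules.pullback f).obj P') :=
  h.of_retract ((Scheme.Modules.pullback f).map i) ((Scheme.Modules.pullback f).map p) (by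
    rw [← Functor.map_comp, hip, CategoryTheory.Functor.map_id])

section Reg

variable (hs : IsSplitMono (ClSub.unitToPush f)) {N : X.Modules} (hN : IsBrick N)

include hs hN

/-- **Regularity.** -/
theorem exists_reg {W W' : Y.Modules} (hW : HasBases W) (hW' : HasBases W')
    (h1 : Fac N ((Scheme.Modules.pullback f).obj W)) (h2 : Fac N ((Scheme.Modules.pullback f).obj W'))
    (φ : W ⟶ W') : ∃ b : W' ⟶ W, φ ≫ b ≫ φ = φ := by
  obtain ⟨β, hβ⟩ := Fac.regular hN h1 h2 ((Scheme.Modules.pullback f).map φ)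
  let τ := retraction (ClSub.unitToPush f)
  have e1 := map_comp_tr τ hW φ β
  have e2 := tr_comp_map τ hW hW' φ ((Scheme.Modules.pullback f).map φ ≫ β)
  refine ⟨tr τ hW β, ?_⟩
  rw [← Category.assoc, ← e1, ← e2, Category.assoc, hβ]
  exact tr_map (IsSplitMono.id _) hW' φ

/-- **Schur's lemma.** -/
theorem isIso_of_ne_zero {W W' : Y.Modules} (hW : HasBases W) (hW' : HasBases W')
    (h1 : Fac N ((Scheme.Modules.pullback f).obj W)) (h2 : Fac N ((Scheme.Modules.pullback f).obj W'))
    (hi : Indec W) (hi' : Indec W') (φ : W ⟶ W') (hφ : φ ≠ 0) : IsIso φ := by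
  obtain ⟨b, hb⟩ := exists_reg hs hN hW hW' h1 h2 φ
  have e1 : φ ≫ b = 𝟙 W := by
    have h3 := K790.KS.idem_of_indec hi (φ ≫ b : End W) (by
      change (φ ≫ b) ≫ φ ≫ b = φ ≫ b
      rw [Category.assoc, ← Category.assoc b, ← Category.assoc φ, hb])
    rcases h3 with h3 | h3
    · exfalso
      apply hφ
      have h4 : φ ≫ b = 0 := h3
      rw [← hb, ← Category.assoc, h4, zero_comp]
    · exact h3
  have e2 : b ≫ φ = 𝟙 W' := by
    have h3 := K790.KS.idem_of_indec hi' (b ≫ φ : End W') (by
      change (b ≫ φ) ≫ b ≫ φ = b ≫ φ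
      rw [Category.assoc, hb])
    rcases h3 with h3 | h3
    · exfalso
      apply hφ
      have h4 : b ≫ φ = 0 := h3
      rw [← hb, h4, comp_zero]
    · exact h3
  exact ⟨⟨b, e1, e2⟩⟩

/-- Indecomposable modules with `f^* W` generated by `N` are bricks. -/
theorem isBrick {W : Y.Modules} (hW : HasBases W) (h1 : Fac N ((Scheme.Modules.pullback f).obj W))
    (hi : Indec W) : IsBrick W :=
  ⟨fun h => hi.1 ((IsZero.iff_id_eq_zero W).2 h), fun a ha => isIso_of_ne_zero hs hN hW hW h1 h1 hi hi a ha⟩

end Reg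

/-- An indecomposable `W` with `f^* W` generated by `N = f^* G`-like summands maps to `f_* N`: there is a nonzero
morphism `W ⟶ f_* N`. -/
theorem exists_ne_zero_push {N : X.Modules} {W : Y.Modules} (hW : ¬ IsZero ((Scheme.Modules.pullback f).obj W))
    (h1 : Fac N ((Scheme.Modules.pullback f).obj W)) :
    ∃ φ : W ⟶ (Scheme.Modules.pushforward f).obj N, φ ≠ 0 := by
  obtain ⟨b, hb⟩ := h1.exists_ne_zero fun h => hW ((IsZero.iff_id_eq_zero _).2 h)
  refine ⟨(Scheme.Modules.pullbackPushforwardAdjunction f).homEquiv W N b, fun h => hb ?_⟩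
  have h2 : (Scheme.Modules.pullbackPushforwardAdjunction f).homEquiv W N 0 = 0 := by
    rw [Adjunction.homEquiv_unit, Functor.map_zero, comp_zero]
  exact ((Scheme.Modules.pullbackPushforwardAdjunction f).homEquiv W N).injective (h.trans h2.symm)

/-- `f^*` detects zero objects when the unit splits. -/
theorem not_isZero_pullback (hs : IsSplitMono (ClSub.unitToPush f)) {W : Y.Modules} (hW : HasBases W)
    (h : ¬ IsZero W) : ¬ IsZero ((Scheme.Modules.pullback f).obj W) := by
  intro hz
  obtain ⟨p, hp⟩ := exists_retract hs hW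
  apply h
  rw [IsZero.iff_id_eq_zero]
  have h2 : IsZero ((Scheme.Modules.pushforward f).obj ((Scheme.Modules.pullback f).obj W)) :=
    (Scheme.Modules.pushforward f).map_isZero hz
  refine hp.symm.trans ?_
  have h3 : p = 0 := h2.eq_of_src _ _
  rw [h3, comp_zero]

section Field

variable (k : Type u) [Field k]

/-- Invertible modules on a proper integral scheme over an algebraically closed field are bricks. -/
theorem isBrick_of_isInvertible [IsAlgClosed k] (x : X ⟶ Spec (CommRingCat.of k)) [IsProper x] [IsIntegral X]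
    {L : X.Modules} (hL : PicF.IsInvertible L) : IsBrick L := by
  let _ : X.Over (Spec (CommRingCat.of k)) := ⟨x⟩
  let _ := CurvesC.LinMod.linearModules k X
  have : IsProper (X ↘ Spec (CommRingCat.of k)) := inferInstanceAs (IsProper x)
  refine ⟨fun h => K792.EndLine.not_isZero hL ((IsZero.iff_id_eq_zero L).2 h), fun a ha => ?_⟩
  obtain ⟨c, hc⟩ := K792.EndLine.exists_scalar k hL a
  have hc0 : c ≠ 0 := by
    rintro rfl
    exact ha (hc.trans (zero_smul k (𝟙 L)))
  refine ⟨⟨c⁻¹ • 𝟙 L, ?_, ?_⟩⟩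
  · rw [hc, Linear.smul_comp, Linear.comp_smul, Category.comp_id, smul_smul, mul_inv_cancel₀ hc0, one_smul]
  · rw [hc, Linear.smul_comp, Linear.comp_smul, Category.comp_id, smul_smul, inv_mul_cancel₀ hc0, one_smul]

/-- Decomposition of a vector bundle `E` with `f^* E` generated by `N`. -/
theorem exists_decomp (y : Y ⟶ Spec (CommRingCat.of k)) [IsProper y] {N : X.Modules} {E : Y.Modules}
    (hE : FlatMod.IsFinLocFree E) (h : Fac N ((Scheme.Modules.pullback f).obj E)) :
    ∃ (n : ℕ) (W : Fin n → Y.Modules), Nonempty (E ≅ ∐ W) ∧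
      ∀ i, Indec (W i) ∧ FlatMod.IsFinLocFree (W i) ∧ Fac N ((Scheme.Modules.pullback f).obj (W i)) := by
  obtain ⟨n, W, hW, ⟨e⟩⟩ := K790.KSch.exists_decomp k y E (K790.Isotyp.isCoh_of_isFinLocFree hE)
  refine ⟨n, W, ⟨e⟩, fun i => ?_⟩
  obtain ⟨p, hp⟩ := exists_proj W i
  have h1 : (Sigma.ι W i ≫ e.inv) ≫ e.hom ≫ p = 𝟙 (W i) := by
    rw [Category.assoc, Iso.inv_hom_id_assoc, hp]
  exact ⟨hW i, Dcoh.Spread.isFinLocFree_of_retract _ _ h1 hE, fac_pullback_of_retract h _ _ h1⟩

end Field

end K231.Schur
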