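import Groth.Agent.BunMod.K231.Mul
import Groth.Agent.S14124
import Groth.Agent.S17508
import Groth.Agent.BunMod.K231.Schur
import Groth.Agent.RefCh.K939.FlatDual
import Groth.Agent.Sga2.PnHomExact
import Groth.Agent.Sga2.PnCoprod
import Groth.Agent.SDiv.K476.HomSh6
import Groth.Agent.Desc.FinLocFreeSections

/-!
# Vanishing for inverses of ample line bundles on an abelian variety (BunMod F2g)

* `vanish` : `B` ample, `M ⊗ B ≅ O`: `H^i(J, M) = 0` for `i ≠ g`;
* `vanish_tensor` : also `H^i(J, M ⊗ α) = 0` for `α` algebraically equivalent to zero;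
* `itg_dual_of_verD` (F2g).
-/

set_option autoImplicit false
set_option linter.unusedVariables false
set_option linter.unusedSectionVars false
universe u

open CategoryTheory CategoryTheory.Limits AlgebraicGeometry MonoidalCategory CartesianMonoidalCategory
open scoped MonObj
open Groth.Agent Groth.Agent.Grpsch.PicGrp Groth.Agent.Fdesc.LocGen
open Groth.Agent.BunMod.K596

namespace K231.Neg

variable {k : Type u} [Field k] [IsAlgClosed k] {J : Over (Spec (CommRingCat.of k))} [GrpObj J]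
  {L : J.left.Modules} {g : ℕ}

/-- Vanishing for the inverse of an ample module. -/
theorem vanish (hJ : PPAV g J L) {B M : J.left.Modules} (hB : CohB1.IsAmple B)
    (e : CohB1.tensorMod B M ≅ Coh.structureModule J.left) {i : ℕ} (hi : i ≠ g) : Subsingleton (Coh.HH J.left M i) := by
  have := hJ.proper
  have := hJ.smooth
  have := hJ.gconn
  have := hJ.gint
  obtain ⟨h1, h2⟩ := S14124.result k J B hB
  obtain ⟨-, h3, -⟩ := S17508.result k J g hJ.dim B M hB.1 ⟨e⟩ 0 (fun j hj => h1 j (Nat.pos_of_ne_zero hj)) h2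
  exact h3 i (by simpa using hi)

/-- Vanishing for the inverse of an ample module times a class algebraically equivalent to zero. -/
theorem vanish_tensor (hJ : PPAV g J L) {B M α : J.left.Modules} (hB : CohB1.IsAmple B)
    (e : CohB1.tensorMod B M ≅ Coh.structureModule J.left) (hα : PicF.IsInvertible α)
    (h0 : @Pic13.IsAlgEquivZero k _ J.left ⟨J.hom⟩ α) {i : ℕ} (hi : i ≠ g) :
    Subsingleton (Coh.HH J.left (CohB1.tensorMod M α) i) := by
  have := hJ.proper
  have := hJ.gint
  have hM : PicF.IsInvertible M := K524.PicInv.isInvertible_of_inv hB.1 e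
  obtain ⟨α', hα', hm⟩ := exists_mk (mk α hα)⁻¹
  have hinv : K506.Transl.Inv (mk α' hα') := by
    rw [← hm]
    exact ((AvPic.isAlgEquivZero_iff_inv hα).1 h0).inv
  have h1 : CohB1.IsAmple (CohB1.tensorMod B α') := AvPic.isAmple_tensor hB hα' hinv
  have h2 : Nonempty (CohB1.tensorMod (CohB1.tensorMod B α') (CohB1.tensorMod M α) ≅ Coh.structureModule J.left) := by
    rw [← mk_eq_one_iff (isInvertible_tensorMod h1.1 (isInvertible_tensorMod hM hα)), ← mk_mul_mk h1.1
      (isInvertible_tensorMod hM hα), ← mk_mul_mk hB.1 hα', ← mk_mul_mk hM hα, ← hm]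
    have h3 : mk B hB.1 * mk M hM = 1 := by
      rw [mk_mul_mk hB.1 hM, mk_eq_one_iff]
      exact ⟨e⟩
    rw [mul_mul_mul_comm, h3, inv_mul_cancel, mul_one]
  obtain ⟨e2⟩ := h2
  exact vanish hJ h1 e2 hi

section Dual

/-- Duality preserves generation. -/
theorem fac_dual {X : Scheme.{u}} {N P : X.Modules} (h : Brick.Fac N P) :
    Brick.Fac (RefHull.dual N) (RefHull.dual P) := by
  obtain ⟨m, a, b, hab⟩ := h
  let O := Coh.structureModule X
  let cN := K476.HomSh6.cmpIso N O
  let cP := K476.HomSh6.cmpIso P O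
  refine ⟨m, fun i => cN.hom ≫ Sga2.PnHomAdj.homMapLeft (b i) O ≫ cP.inv,
    fun i => cP.hom ≫ Sga2.PnHomAdj.homMapLeft (a i) O ≫ cN.inv, ?_⟩
  have h1 : ∀ (s : Finset (Fin m)), ∑ i ∈ s, Sga2.PnHomAdj.homMapLeft (a i) O ≫ Sga2.PnHomAdj.homMapLeft (b i) O =
      Sga2.PnHomAdj.homMapLeft (∑ i ∈ s, b i ≫ a i) O := by
    classical
    intro s
    induction s using Finset.induction_on with
    | empty => rw [Finset.sum_empty, Finset.sum_empty, Sga2.PnHomExact.homMapLeft_zero]
    | insert i s hi ih =>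
      rw [Finset.sum_insert hi, Finset.sum_insert hi, ih, Sga2.PnHomExact.homMapLeft_add,
        Sga2.PnHomExact.homMapLeft_comp]
  have h2 : ∑ i, Sga2.PnHomAdj.homMapLeft (a i) O ≫ Sga2.PnHomAdj.homMapLeft (b i) O = 𝟙 _ := by
    rw [h1, hab, Sga2.PnHomExact.homMapLeft_id]
  calc ∑ i, (cP.hom ≫ Sga2.PnHomAdj.homMapLeft (a i) O ≫ cN.inv) ≫ cN.hom ≫
        Sga2.PnHomAdj.homMapLeft (b i) O ≫ cP.inv =
      cP.hom ≫ (∑ i, Sga2.PnHomAdj.homMapLeft (a i) O ≫ Sga2.PnHomAdj.homMapLeft (b i) O) ≫ cP.inv := by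
        rw [Preadditive.sum_comp, Preadditive.comp_sum]
        refine Finset.sum_congr rfl fun i _ => ?_
        simp only [Category.assoc, Iso.inv_hom_id_assoc]
    _ = 𝟙 _ := by rw [h2, Category.id_comp, Iso.hom_inv_id]

end Dual

/-- F2g. -/
theorem itg_dual_of_verD [CharZero k] (hJ : PPAV g J L) {r m v : ℕ} (hr : 1 ≤ r) (hm : 1 ≤ m) {E : J.left.Modules}
    (hE : VerD J L r m v E) (α : J.left.Modules) (hα : PicF.IsInvertible α)
    (hα0 : @Pic13.IsAlgEquivZero k _ J.left ⟨J.hom⟩ α) (i : ℕ) (hi : i < g) :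
    Subsingleton (Coh.HH J.left (CohB1.tensorMod (RefHull.dual E) α) i) := by
  have := hJ.proper
  have := hJ.gint
  have hint := Mul.isIntegral_left J
  have h1 := Grpsch.MulFin.isFinite_pow J r hr
  have h2 := Grpsch.MulFin.flat_pow J r hr
  have h3 := Grpsch.MulFin.surjective_pow J r hr
  have hN : IsLocallyNoetherian J.left := LocallyOfFiniteType.isLocallyNoetherian J.hom
  let f : J.left ⟶ J.left := ((𝟙 J) ^ r : J ⟶ J).left
  let N := CohB1.tensorPow L (r * m)
  have hNa : CohB1.IsAmple N := Mul.isAmple_pow hJ (Nat.mul_pos hr hm)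
  have hEc : Coh.IsCoh E := K790.Isotyp.isCoh_of_isFinLocFree hE.locFree
  obtain ⟨e⟩ := hE.iso
  have hfac : Brick.Fac N ((Scheme.Modules.pullback f).obj E) := (Brick.Fac.coprod N v).of_iso e.symm
  have hD : PicF.IsInvertible (RefHull.dual N) := K476.HomSh6.isInvertible_dual hNa.1
  obtain ⟨ed⟩ := K939.FlatDual.nonempty_dual_of_isCoh (f := f) hEc
  have hfac' := (fac_dual hfac).of_iso ed.symm
  obtain ⟨s, ⟨es⟩⟩ := hfac'.exists_iso (Schur.isBrick_of_isInvertible k J.hom hD)
  have hlf : FlatMod.IsFinLocFree (RefHull.dual E) := by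
    refine Desc.FinLocFreeSections.isFinLocFree_of_pullback f _ ?_ ?_
    · exact K476.HomSh3.isQCoh_homSh (K476.HomSh3.isFP_of_isCoh hEc) (Fdesc.StructMod.isQCoh_structureModule _)
    · exact Dcoh.FinLocFree.isFinLocFree_of_iso es.symm (Sga2.PnCoprod.isFinLocFree_coproduct _ fun _ =>
        K790.Isotyp.isFinLocFree_of_isInvertible hD)
  refine Mul.subsingleton_of_pullback hJ hr _ (Sga67.LocBasis.isFinLocFree_tensorMod hlf
    (K790.Isotyp.isFinLocFree_of_isInvertible hα)) i ?_
  obtain ⟨e'⟩ := Mul.pullback_tensor_iso f (α := α) es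
  refine CohqB.LocBaseHH.subsingleton_of_iso e'.symm i ?_
  refine Fga.HShift.subsingleton_coproduct _ i fun _ => ?_
  obtain ⟨et⟩ := K476.HomSh6.nonempty_tensor_dual hNa.1
  exact vanish_tensor hJ hNa et (Fdesc.LocGen.isInvertible_pullback _ hα) (AvPic.algEquivZero_pullback hJ r α hα hα0)
    hi.ne

/-- `H^i(J, M ⊗ α) = 0` for `i < g`, `M` inverse to a positive power of `L`, `α` algebraically equivalent to zero. -/
theorem vanish_inv_pow [CharZero k] (hJ : PPAV g J L) {n : ℕ} (hn : 1 ≤ n) {M α : J.left.Modules}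
    (e : CohB1.tensorMod (CohB1.tensorPow L n) M ≅ Coh.structureModule J.left) (hα : PicF.IsInvertible α)
    (h0 : @Pic13.IsAlgEquivZero k _ J.left ⟨J.hom⟩ α) {i : ℕ} (hi : i ≠ g) :
    Subsingleton (Coh.HH J.left (CohB1.tensorMod M α) i) :=
  vanish_tensor hJ (Mul.isAmple_pow hJ hn) e hα h0 hi

end K231.Neg
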