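import Groth.Agent.BunMod.K231.Mul
import Groth.Agent.BunMod.K231.Schur
import Groth.Agent.AbVar.K512.IsogSplit
import Groth.Agent.AbVar.K527.IsogFiltAV
import Groth.Agent.Grpsch.CubePush
import Groth.Agent.Pic13.H602.InvDesc
import Groth.Agent.PerfB.PushFLF

/-!
# `π_* O_B` for an isogeny `π : B ⟶ A` in characteristic zero (BunMod F2h)

* `exists_push_iso`: `π_* O_B ≅ ∐ P_i` with `P_i` invertible and `π^* P_i ≅ O_B`;
* `nonempty_tensorPow_iff`: on `J`: `P^r ≅ O` iff `[r]^* P ≅ O`;
* `sum_of_verD` (F2h).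
-/

set_option autoImplicit false
set_option linter.unusedVariables false
set_option linter.unusedSectionVars false
universe u

open CategoryTheory CategoryTheory.Limits AlgebraicGeometry MonoidalCategory CartesianMonoidalCategory
open scoped MonObj
open Groth.Agent Groth.Agent.VarietyB.TensCoh Groth.Agent.Grpsch.PicGrp Groth.Agent.Fdesc.LocGen
open Groth.Agent.BunMod.K596
open K231.Brick K231.Cov K231.Schur
open K790.KS (Indec)

namespace K231.Sum

section Filt

variable {X Y : Scheme.{u}} {f : X ⟶ Y} (hs : IsSplitMono (ClSub.unitToPush f)) {N : X.Modules} (hN : IsBrick N)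

include hs hN

/-- An indecomposable module with a nonzero map to a filtered module is isomorphic to one of the graded pieces. -/
theorem exists_iso_of_filt {Q : Y.Modules → Prop}
    (hQ : ∀ M, Q M → HasBases M ∧ Indec M ∧ Fac N ((Scheme.Modules.pullback f).obj M)) {E : Y.Modules}
    (hE : K527.AbsFilt.Filt Q E) {W : Y.Modules} (hW : HasBases W) (hWi : Indec W)
    (hWN : Fac N ((Scheme.Modules.pullback f).obj W)) (φ : W ⟶ E) (hφ : φ ≠ 0) :
    ∃ M, Q M ∧ Nonempty (W ≅ M) := by
  induction hE with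
  | zero E hz => exact absurd (hz.eq_of_tgt _ _) hφ
  | ext S hS h1 h3 ih =>
    by_cases h : φ ≫ S.g = 0
    · have := hS.mono_f
      refine ih (hS.exact.lift φ h) fun h0 => hφ ?_
      rw [← hS.exact.lift_f φ h, h0, zero_comp]
    · obtain ⟨a, b, c⟩ := hQ _ h3
      have := isIso_of_ne_zero hs hN hW a hWN c hWi b (φ ≫ S.g) h
      exact ⟨_, h3, ⟨asIso (φ ≫ S.g)⟩⟩

end Filt

section Isog

variable {k : Type u} [Field k] [IsAlgClosed k] [CharZero k] {A B : Over (Spec (CommRingCat.of k))}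
  [GrpObj A] [GrpObj B] [IsProper A.hom] [GeometricallyIntegral A.hom] [IsProper B.hom] [GeometricallyIntegral B.hom]
  (π : B ⟶ A) [IsMonHom π] [IsFinite π.left]

omit [IsProper A.hom] [GeometricallyIntegral A.hom] [GeometricallyIntegral B.hom] in
/-- The kernel of an isogeny has finitely many points. -/
theorem finite_ker : Finite {a : 𝟙_ (Over (Spec (CommRingCat.of k))) ⟶ B // a ≫ π = 1} := by
  obtain ⟨N, hN, i, hi, hker⟩ := Groth.Agent.Grpsch.KerMul.exists_kernel π
  have hker' : IsPullback i.left (toUnit N).left π.left (η[A] : 𝟙_ (Over (Spec (CommRingCat.of k))) ⟶ A).left :=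
    hker.map (Over.forget _)
  have hNf0 : IsFinite (toUnit N).left := MorphismProperty.of_isPullback (P := @IsFinite) hker' inferInstance
  have hNf : IsFinite N.hom := by
    have h : (toUnit N).left = N.hom := (Category.comp_id _).symm.trans (Over.w (toUnit N))
    rwa [h] at hNf0
  have hfin : Finite (𝟙_ (Over (Spec (CommRingCat.of k))) ⟶ N) := K512.IsogSplit.finite_pts
  refine Finite.of_injective (fun a : {a : 𝟙_ (Over (Spec (CommRingCat.of k))) ⟶ B // a ≫ π = 1} =>
    hker.lift a.1 (toUnit _) (by rw [a.2]; rfl)) fun a b h => Subtype.ext ?_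
  have h1 := congrArg (fun t => t ≫ i) h
  simpa using h1

/-- `π^* π_* E` is generated by `N` if all translates of `E` by the kernel are isomorphic to `N`. -/
theorem fac_push {E : B.left.Modules} (hE : Coh.IsQCoh E)
    (h : ∀ a : 𝟙_ (Over (Spec (CommRingCat.of k))) ⟶ B, a ≫ π = 1 →
      Nonempty ((Scheme.Modules.pullback (𝟙 B * (toUnit B ≫ a)).left).obj E ≅ E)) :
    Fac E ((Scheme.Modules.pullback π.left).obj ((Scheme.Modules.pushforward π.left).obj E)) := by
  have : E.IsQuasicoherent := hE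
  have := finite_ker π
  obtain ⟨e⟩ := K512.IsogSplit.nonempty_iso π E
  have h1 : Fac E (∐ fun _ : {a : 𝟙_ (Over (Spec (CommRingCat.of k))) ⟶ B // a ≫ π = 1} => E) := Fac.pow
  refine h1.of_iso ?_
  exact (Sigma.mapIso fun a => (h a.1 a.2).some.symm) ≪≫ e.symm

variable [Flat π.left] [Surjective π.left]

omit [GrpObj A] [GrpObj B] [IsProper A.hom] [IsProper B.hom] [GeometricallyIntegral B.hom] [IsMonHom π]
  [Flat π.left] [IsAlgClosed k] [CharZero k] in
theorem isInvertible_of_iso {X : Scheme.{u}} {M N : X.Modules} (e : M ≅ N) (h : PicF.IsInvertible M) :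
    PicF.IsInvertible N := Krr.H490.PBFun.isInvertible_of_iso e h

/-- **`π_* O_B` is a sum of invertible modules killed by `π^*`.** -/
theorem exists_push_iso : ∃ (n : ℕ) (P : Fin n → A.left.Modules),
    (∀ i, PicF.IsInvertible (P i) ∧
      Nonempty ((Scheme.Modules.pullback π.left).obj (P i) ≅ Coh.structureModule B.left)) ∧
    Nonempty ((Scheme.Modules.pushforward π.left).obj (Coh.structureModule B.left) ≅ ∐ P) := by
  have hintA := Mul.isIntegral_left A
  have hintB := Mul.isIntegral_left B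
  have hlofp := Mul.lofp π
  have hs : IsSplitMono (ClSub.unitToPush π.left) := Cov.isSplitMono_unitToPush k π.left A.hom
  have hO : PicF.IsInvertible (Coh.structureModule B.left) := isInvertible_structureModule
  have hOq : Coh.IsQCoh (Coh.structureModule B.left) := Groth.Agent.Fdesc.StructMod.isQCoh_structureModule B.left
  have hN : IsBrick (Coh.structureModule B.left) := Schur.isBrick_of_isInvertible k B.hom hO
  have hE : FlatMod.IsFinLocFree ((Scheme.Modules.pushforward π.left).obj (Coh.structureModule B.left)) :=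
    PerfB.PushFLF.isFinLocFree_pushforward π.left (K790.Isotyp.isFinLocFree_of_isInvertible hO)
  have hfac := fac_push π hOq fun a _ => ⟨ASBun.K791.Tens.pullUnit _⟩
  obtain ⟨n, W, ⟨e⟩, hW⟩ := Schur.exists_decomp k A.hom hE hfac
  have hc : IsCommMonObj B := isCommMonObj_of_isProper_of_geometricallyIntegral B
  have hbij : Function.Bijective (B.hom.app ⊤) := by
    have := Grpsch.CubeData.isIso_app B.hom ⊤
    exact ConcreteCategory.bijective_of_isIso _
  have hfilt := K527.IsogFiltAV.filt π (fun T x y => mul_comm x y) hbij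
  have hQinv : ∀ M : A.left.Modules, (Coh.IsQCoh M ∧ Nonempty ((Scheme.Modules.pullback π.left).obj M ≅
      Coh.structureModule B.left)) → PicF.IsInvertible M := by
    rintro M ⟨h2, ⟨e'⟩⟩
    exact Pic13.H602.InvDesc.isInvertible_of_single π.left M h2 (isInvertible_of_iso e'.symm hO)
  have key : ∀ i, ∃ M : A.left.Modules, (Coh.IsQCoh M ∧ Nonempty ((Scheme.Modules.pullback π.left).obj M ≅
      Coh.structureModule B.left)) ∧ Nonempty (W i ≅ M) := by
    intro i
    obtain ⟨hi1, hi2, hi3⟩ := hW i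
    refine exists_iso_of_filt hs hN (fun M hM => ?_) hfilt (HasBases.of_isFinLocFree hi2) hi1 hi3
      (Sigma.ι W i ≫ e.inv) fun h0 => hi1.1 ?_
    · have hM' := hQinv M hM
      exact ⟨HasBases.of_isFinLocFree (K790.Isotyp.isFinLocFree_of_isInvertible hM'),
        K790.Line.indec_of_isInvertible hM', (Fac.self _).of_iso hM.2.some.symm⟩
    · obtain ⟨p, hp⟩ := exists_proj W i
      rw [IsZero.iff_id_eq_zero, ← hp]
      have h1 : Sigma.ι W i = 0 := by
        rw [← Category.comp_id (Sigma.ι W i), ← e.inv_hom_id, ← Category.assoc, h0, zero_comp]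
      rw [h1, zero_comp]
  choose M hM1 hM2 using key
  exact ⟨n, M, fun i => ⟨hQinv _ (hM1 i), (hM1 i).2⟩, ⟨e ≪≫ Sigma.mapIso fun i => (hM2 i).some⟩⟩

/-- **Decomposition of modules with `π^* E` generated by `π^* D`.** -/
theorem exists_sum {D E : A.left.Modules} (hD : PicF.IsInvertible D) (hE : FlatMod.IsFinLocFree E)
    (h : Fac ((Scheme.Modules.pullback π.left).obj D) ((Scheme.Modules.pullback π.left).obj E)) :
    ∃ (s : ℕ) (P : Fin s → A.left.Modules),
      (∀ i, PicF.IsInvertible (P i) ∧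
        Nonempty ((Scheme.Modules.pullback π.left).obj (P i) ≅ Coh.structureModule B.left)) ∧
      Nonempty (E ≅ ∐ fun i : Fin s => CohB1.tensorMod D (P i)) := by
  have hintA := Mul.isIntegral_left A
  have hintB := Mul.isIntegral_left B
  have hlofp := Mul.lofp π
  have hs : IsSplitMono (ClSub.unitToPush π.left) := Cov.isSplitMono_unitToPush k π.left A.hom
  have hfD : PicF.IsInvertible ((Scheme.Modules.pullback π.left).obj D) := isInvertible_pullback _ hD
  have hN : IsBrick ((Scheme.Modules.pullback π.left).obj D) := Schur.isBrick_of_isInvertible k B.hom hfD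
  obtain ⟨n, P, hP, ⟨eP⟩⟩ := exists_push_iso π
  obtain ⟨s, W, ⟨e⟩, hW⟩ := Schur.exists_decomp k A.hom hE h
  have hDb : HasBases D := HasBases.of_isFinLocFree (K790.Isotyp.isFinLocFree_of_isInvertible hD)
  -- `π_* π^* D ≅ ∐ D ⊗ P_i`
  let eD : (Scheme.Modules.pushforward π.left).obj ((Scheme.Modules.pullback π.left).obj D) ≅
      ∐ fun i => CohB1.tensorMod D (P i) :=
    (VarietyB.ProjForm.projIsoUnit π.left hDb).symm ≪≫ ASBun.K791.Tens.tensMap (Iso.refl D) eP ≪≫
      ASBun.K791.Tens.tensCoprod D P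
  have key : ∀ j, ∃ i, Nonempty (W j ≅ CohB1.tensorMod D (P i)) := by
    intro j
    obtain ⟨hj1, hj2, hj3⟩ := hW j
    have hjb := HasBases.of_isFinLocFree hj2
    obtain ⟨φ, hφ⟩ := exists_ne_zero_push (not_isZero_pullback hs hjb hj1.1) hj3
    have hφ' : φ ≫ eD.hom ≠ 0 := fun h0 => hφ (by
      rw [← Category.comp_id φ, ← eD.hom_inv_id, ← Category.assoc, h0, zero_comp])
    obtain ⟨i, p, hp⟩ := exists_proj_ne_zero (fun i => CohB1.tensorMod D (P i)) (φ ≫ eD.hom) hφ'
    have hDP : PicF.IsInvertible (CohB1.tensorMod D (P i)) := isInvertible_tensorMod hD (hP i).1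
    have hfac : Fac ((Scheme.Modules.pullback π.left).obj D)
        ((Scheme.Modules.pullback π.left).obj (CohB1.tensorMod D (P i))) := by
      refine (Fac.self _).of_iso ?_
      exact (ASBun.K791.Tens.tensRUnit _).symm ≪≫ ASBun.K791.Tens.tensMap (Iso.refl _) (hP i).2.some.symm ≪≫
        (ASBun.K791.Tens.pullTens π.left D (P i)).symm
    have := isIso_of_ne_zero hs hN hjb
      (HasBases.of_isFinLocFree (K790.Isotyp.isFinLocFree_of_isInvertible hDP)) hj3 hfac hj1
      (K790.Line.indec_of_isInvertible hDP) ((φ ≫ eD.hom) ≫ p) hp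
    exact ⟨i, ⟨asIso ((φ ≫ eD.hom) ≫ p)⟩⟩
  choose c hc using key
  exact ⟨s, fun j => P (c j), fun j => hP (c j), ⟨e ≪≫ Sigma.mapIso fun j => (hc j).some⟩⟩

end Isog

section PPAV

variable {k : Type u} [Field k] [IsAlgClosed k] {J : Over (Spec (CommRingCat.of k))} [GrpObj J]
  {L : J.left.Modules} {g : ℕ}

/-- `[r]^* P ≅ O` iff `P^r ≅ O`. -/
theorem nonempty_tensorPow_iff (hJ : PPAV g J L) {r : ℕ} (hr : 1 ≤ r) {P : J.left.Modules}
    (hP : PicF.IsInvertible P) :
    Nonempty (CohB1.tensorPow P r ≅ Coh.structureModule J.left) ↔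
      Nonempty ((Scheme.Modules.pullback ((𝟙 J) ^ r : J ⟶ J).left).obj P ≅ Coh.structureModule J.left) := by
  have := hJ.proper
  have := hJ.gint
  rw [← mk_eq_one_iff (isInvertible_tensorPow hP r), ← mk_eq_one_iff (isInvertible_pullback _ hP), ← pull_mk _ hP,
    mk_tensorPow hP]
  have hid : Grpsch.Cube.pl (𝟙 J) (mk P hP) = mk P hP := pull_id _
  have key : K506.Transl.Inv (mk P hP) → Grpsch.Cube.pl ((𝟙 J) ^ r) (mk P hP) = mk P hP ^ r := fun h => by
    rw [K506.TauAmple.pl_pow_of_inv h, hid]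
  constructor
  · intro h
    have h1 := AvPic.inv_of_pow_eq_one r hr h
    exact (key h1).trans h
  · intro h
    obtain ⟨q, hq, h2⟩ := AvPic.exists_inv_pl_pow hJ (mk P hP) r
    have h3 : mk P hP ^ (r ^ 2) * q = 1 := h2.symm.trans h
    have h4 : K506.Transl.Inv (mk P hP ^ (r ^ 2)) := by
      rw [eq_inv_of_mul_eq_one_left h3]
      exact hq.inv
    have h5 : K506.Transl.Inv (mk P hP) := K506.TauInv.inv_of_inv_pow (r ^ 2) (Nat.pos_of_ne_zero (by positivity)) h4
    exact (key h5).symm.trans h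

/-- F2h. -/
theorem sum_of_verD [CharZero k] (hJ : PPAV g J L) (hs : Sym J L) {r m v : ℕ} (hr : 1 ≤ r) (hm : 1 ≤ m)
    {E : J.left.Modules} (hE : VerD J L r (m * r) v E) :
    ∃ (s : ℕ) (P : Fin s → J.left.Modules),
      (∀ i, PicF.IsInvertible (P i) ∧ Nonempty (CohB1.tensorPow (P i) r ≅ Coh.structureModule J.left)) ∧
      Nonempty (E ≅ ∐ fun i : Fin s => CohB1.tensorMod (CohB1.tensorPow L m) (P i)) := by
  have := hJ.proper
  have := hJ.gint
  have hc : IsCommMonObj J := hJ.comm
  have h1 := Grpsch.MulFin.isFinite_pow J r hr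
  have h2 := Grpsch.MulFin.flat_pow J r hr
  have h3 := Grpsch.MulFin.surjective_pow J r hr
  have hmon : IsMonHom ((𝟙 J) ^ r : J ⟶ J) := inferInstance
  have hD : PicF.IsInvertible (CohB1.tensorPow L m) := isInvertible_tensorPow hJ.inv m
  have hN : Nonempty (CohB1.tensorPow L (r * (m * r)) ≅
      (Scheme.Modules.pullback ((𝟙 J) ^ r : J ⟶ J).left).obj (CohB1.tensorPow L m)) := by
    have h4 := AvPic.pullback_eq_of_sym hJ r L hJ.inv hs
    rw [← mk_eq_iff (isInvertible_pullback _ hJ.inv) (isInvertible_tensorPow hJ.inv _), ← pull_mk _ hJ.inv,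
      mk_tensorPow hJ.inv] at h4
    rw [← mk_eq_iff (isInvertible_tensorPow hJ.inv _) (isInvertible_pullback _ hD), ← pull_mk _ hD,
      mk_tensorPow hJ.inv, mk_tensorPow hJ.inv, map_pow, h4, ← pow_mul]
    congr 1
    ring
  obtain ⟨e⟩ := hE.iso
  obtain ⟨e1⟩ := hN
  have hfac : Fac ((Scheme.Modules.pullback ((𝟙 J) ^ r : J ⟶ J).left).obj (CohB1.tensorPow L m))
      ((Scheme.Modules.pullback ((𝟙 J) ^ r : J ⟶ J).left).obj E) :=
    (Fac.coprod _ v).of_iso ((Sigma.mapIso fun _ => e1.symm) ≪≫ e.symm)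
  obtain ⟨s, P, hP, he⟩ := exists_sum ((𝟙 J) ^ r : J ⟶ J) hD hE.locFree hfac
  exact ⟨s, P, fun i => ⟨(hP i).1, (nonempty_tensorPow_iff hJ hr (hP i).1).2 (hP i).2⟩, he⟩

end PPAV

end K231.Sum
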