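import Groth.Agent.BunMod.K231.Neg
import Groth.Agent.BunMod.K231.Iso
import Groth.Agent.BunMod.K596.F1
import Groth.Agent.BunMod.K596.JB
import Groth.Agent.BunMod.K957.ThetaLBJ
import Groth.Agent.BunMod.K808.Verl
import Groth.Agent.BunMod.K231.Sum
import Groth.Agent.BunMod.K479.ModSSOne
import Groth.Agent.BunMod.K527.SymTheta

/-!
# The rows of part F2 from the structure theorem

`hstr` is the structure theorem SO1 for the data of the row.
* `exists_verD`     : the data of a row give `PPAV` and `VerD`.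
* `row16658`, `row16924`, `row16931`, `row16923`, `row16657`.
-/

set_option autoImplicit false
set_option linter.unusedVariables false
universe u

open CategoryTheory CategoryTheory.Limits AlgebraicGeometry MonoidalCategory CartesianMonoidalCategory MonObj
open Groth.Agent Groth.Agent.BunMod.K596

namespace K231.Rows

section main

variable {k : Type u} [Field k] [IsAlgClosed k]
  {X : Scheme.{u}} [X.Over (Spec (CommRingCat.of k))]
  [IsProper (X ↘ Spec (CommRingCat.of k))] [Smooth (X ↘ Spec (CommRingCat.of k))]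
  [GeometricallyConnected (X ↘ Spec (CommRingCat.of k))] (hdim : topologicalKrullDim ↥X = 1)
  {g : ℕ} (hg : Curv2.genus k X = g) (hg2 : 2 ≤ g) {r : ℕ} (hr : 2 ≤ r)
  {N : X.Modules} (hN : PicF.IsInvertible N) (hNdeg : Curv2.deg k X N 1 = (g : ℤ) - 1)
  {M : Over (Spec (CommRingCat.of k))} {Θ : M.left.Modules} (hΘ : PicF.IsInvertible Θ)
  {J : Over (Spec (CommRingCat.of k))} {ψ : (ModFun.PicDeg (X ↘ Spec (CommRingCat.of k)) 0).Hom ⊤ J}
  (hJ : ModFun.IsCoarseModuli ⊤ (ModFun.PicDeg (X ↘ Spec (CommRingCat.of k)) 0) J ψ) {dm : M ⟶ J}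
  (hstr : ∀ (_ : GrpObj J) (_ : IsCommMonObj J), Jac.IsJacobian (X ↘ Spec (CommRingCat.of k)) ⊤ J ψ →
    ∀ ΘJ : J.left.Modules, Jac.IsThetaLB (X ↘ Spec (CommRingCat.of k)) 0 ψ N ΘJ → Nonempty (Str r dm Θ ΘJ))

include hdim hg hg2 hr hN hNdeg hΘ hJ hstr

/-- The data of a row give a principally polarised `(J, L)` and `VerD` for the Verlinde bundles. -/
theorem exists_verD : ∃ (_ : GrpObj J) (L : J.left.Modules), PPAV g J L ∧
    ∀ m : ℕ, ∃ v : ℕ, VerD J L r m v ((Scheme.Modules.pushforward dm.left).obj (CohB1.tensorPow Θ m)) := by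
  obtain ⟨hG, hC, hJac⟩ := JB.exists_isJacobian k X hdim J ψ hJ
  obtain ⟨ΘJ, hΘJ⟩ := BunMod.K957.ThetaLBJ.exists_thetaLB k X hdim g hg (by omega) N hN hNdeg J ψ hJac
  obtain ⟨S⟩ := hstr hG hC hJac ΘJ hΘJ
  have hP : PPAV g J ΘJ := JB.ppav k X hdim g hg (by omega) N hN hNdeg J ψ hJac ΘJ hΘJ
  exact ⟨hG, ΘJ, hP, fun m => ⟨_, F1.verD_of_str hP hΘ (by omega) S m⟩⟩

variable [CharZero k]

/-- Row S16924. -/
theorem row16924 (m : ℕ) (hm : 1 ≤ m) (α : J.left.Modules) (hα : PicF.IsInvertible α)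
    (hα0 : @Pic13.IsAlgEquivZero k _ J.left ⟨J.hom⟩ α) (i : ℕ) (hi : 0 < i) :
    Subsingleton (Coh.HH J.left
      (CohB1.tensorMod ((Scheme.Modules.pushforward dm.left).obj (CohB1.tensorPow Θ m)) α) i) := by
  obtain ⟨_, L, hP, h⟩ := exists_verD hdim hg hg2 hr hN hNdeg hΘ hJ hstr
  obtain ⟨v, hv⟩ := h m
  exact Mul.it0_of_verD hP (by omega) hm hv α hα hα0 i hi

/-- Row S16658. -/
theorem row16658 (m : ℕ) (hm : 1 ≤ m) (i : ℕ) (hi : 0 < i) :
    Subsingleton (Coh.HH J.left ((Scheme.Modules.pushforward dm.left).obj (CohB1.tensorPow Θ m)) i) :=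
  CohqB.LocBaseHH.subsingleton_of_iso (ASBun.K791.Tens.tensRUnit _) i
    (row16924 hdim hg hg2 hr hN hNdeg hΘ hJ hstr m hm _ Fdesc.LocGen.isInvertible_structureModule
      K808.Verl.isAlgEquivZero_one i hi)

/-- Row S16931. -/
theorem row16931 (m : ℕ) (hm : 1 ≤ m) (α : J.left.Modules) (hα : PicF.IsInvertible α)
    (hα0 : @Pic13.IsAlgEquivZero k _ J.left ⟨J.hom⟩ α) (i : ℕ) (hi : i < g) :
    Subsingleton (Coh.HH J.left
      (CohB1.tensorMod (RefHull.dual ((Scheme.Modules.pushforward dm.left).obj (CohB1.tensorPow Θ m))) α) i) := by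
  obtain ⟨_, L, hP, h⟩ := exists_verD hdim hg hg2 hr hN hNdeg hΘ hJ hstr
  obtain ⟨v, hv⟩ := h m
  exact Neg.itg_dual_of_verD hP (by omega) hm hv α hα hα0 i hi

/-- Row S16923. -/
theorem row16923 (P : J.left.Modules) (hP : PicF.IsInvertible P)
    (hPr : Nonempty (CohB1.tensorPow P r ≅ Coh.structureModule J.left)) :
    Nonempty (CohB1.tensorMod ((Scheme.Modules.pushforward dm.left).obj Θ) P ≅
      (Scheme.Modules.pushforward dm.left).obj Θ) := by
  obtain ⟨_, L, hL, h⟩ := exists_verD hdim hg hg2 hr hN hNdeg hΘ hJ hstr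
  obtain ⟨v, hv⟩ := h 1
  obtain ⟨e⟩ := Iso.tensor_iso_of_verD hL (by omega) hv P hP hPr
  have e1 : (Scheme.Modules.pushforward dm.left).obj (CohB1.tensorPow Θ 1) ≅
      (Scheme.Modules.pushforward dm.left).obj Θ :=
    (Scheme.Modules.pushforward dm.left).mapIso (ASBun.K791.Tens.tensLUnit Θ)
  exact ⟨ASBun.K791.Tens.tensMap e1.symm (Iso.refl P) ≪≫ e ≪≫ e1⟩

end main

/-- Row S16657. -/
theorem row16657 (k : Type u) [Field k] [IsAlgClosed k] [CharZero k]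
    (X : Scheme.{u}) [X.Over (Spec (CommRingCat.of k))]
    [IsProper (X ↘ Spec (CommRingCat.of k))] [Smooth (X ↘ Spec (CommRingCat.of k))]
    [GeometricallyConnected (X ↘ Spec (CommRingCat.of k))] (hdim : topologicalKrullDim ↥X = 1)
    (g : ℕ) (hg : Curv2.genus k X = g) (hg2 : 2 ≤ g)
    (r : ℕ) (hr : 2 ≤ r) (m : ℕ) (hm : 1 ≤ m) (N : X.Modules) (hN : PicF.IsInvertible N) (hNdeg : Curv2.deg k X N 1 = (g : ℤ) - 1)
    (hNth : Nonempty (CohB1.tensorMod N N ≅ Omega.sheaf (X ↘ Spec (CommRingCat.of k))))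
    (M : Over (Spec (CommRingCat.of k))) (φ : (BunMod.USS (X ↘ Spec (CommRingCat.of k)) r 0).Hom ⊤ M)
    (Θ : M.left.Modules) (hΘ : PicF.IsInvertible Θ)
    (J : Over (Spec (CommRingCat.of k))) (ψ₁ : (BunMod.USS (X ↘ Spec (CommRingCat.of k)) 1 0).Hom ⊤ J)
    (hJ : BunMod.IsModSS (X ↘ Spec (CommRingCat.of k)) ⊤ 1 0 J ψ₁)
    (ΘJ : J.left.Modules) (hΘJ : BunMod.IsThetaLB (X ↘ Spec (CommRingCat.of k))
      (BunMod.ussOK (X ↘ Spec (CommRingCat.of k)) 1 0) ψ₁ N ΘJ)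
    (dm : M ⟶ J)
    (hdet : ∀ (T : Over (Spec (CommRingCat.of k))) (E : (ModFun.modProb (X ↘ Spec (CommRingCat.of k))).Fam T),
      (BunMod.USS (X ↘ Spec (CommRingCat.of k)) r 0).ok T E →
        ∃ D : (ModFun.modProb (X ↘ Spec (CommRingCat.of k))).Fam T, (∃ n : ℕ, FlatMod.IsFinLocFreeOfRank n E ∧ ExtPow.IsExtPow n E D) ∧
          (BunMod.USS (X ↘ Spec (CommRingCat.of k)) 1 0).ok T D)
    (hdm : ModFun.Induces φ ψ₁
      (fun T (E D : (ModFun.modProb (X ↘ Spec (CommRingCat.of k))).Fam T) => ∃ n : ℕ, FlatMod.IsFinLocFreeOfRank n E ∧ ExtPow.IsExtPow n E D) dm)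
    (hstr : ∀ (ψ : (ModFun.PicDeg (X ↘ Spec (CommRingCat.of k)) 0).Hom ⊤ J) (_ : GrpObj J) (_ : IsCommMonObj J),
      Jac.IsJacobian (X ↘ Spec (CommRingCat.of k)) ⊤ J ψ → Jac.IsThetaLB (X ↘ Spec (CommRingCat.of k)) 0 ψ N ΘJ →
      BunMod.IsDetMap (X ↘ Spec (CommRingCat.of k)) (BunMod.ussOK (X ↘ Spec (CommRingCat.of k)) r 0) φ 0 ψ dm →
      Nonempty (Str r dm Θ ΘJ)) :
    ∃ (s : ℕ) (P : Fin s → J.left.Modules),
      (∀ i, PicF.IsInvertible (P i) ∧ Nonempty (CohB1.tensorPow (P i) r ≅ Coh.structureModule J.left)) ∧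
      Nonempty (((Scheme.Modules.pushforward dm.left).obj (CohB1.tensorPow Θ (m * r))) ≅
        ∐ fun i : Fin s => CohB1.tensorMod (CohB1.tensorPow ΘJ m) (P i)) := by
  obtain ⟨ψ, hψ, hth, hdt⟩ := K479.ModSSOne.of_modSS_one k X hdim J ψ₁ hJ
  have hΘ' := hth N ΘJ hN hΘJ
  obtain ⟨hG, hC, hJac⟩ := JB.exists_isJacobian k X hdim J ψ hψ
  obtain ⟨S⟩ := hstr ψ hG hC hJac hΘ' (hdt r M φ dm hdet hdm)
  have hP : PPAV g J ΘJ := JB.ppav k X hdim g hg (by omega) N hN hNdeg J ψ hJac ΘJ hΘ'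
  exact Sum.sum_of_verD hP (K527.SymTheta.sym k X hdim g hg (by omega) N hN hNdeg hNth J ψ hJac ΘJ hΘ')
    (by omega) hm (F1.verD_of_str hP hΘ (by omega) S (m * r))

end K231.Rows
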